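import Groth.Agent.Lib.EtHull15.Rank
import Groth.Agent.S5161
import Mathlib.RingTheory.Ideal.Height

/-!
# Smallest factorisations in directed families
-/

universe u

open CategoryTheory Limits AlgebraicGeometry TopologicalSpace IsLocalRing

set_option backward.isDefEq.respectTransparency.types false

namespace Groth.Agent.EtHull15

section Topology

variable {T : Type*} [TopologicalSpace T] [QuasiSober T] [T0Space T]

theorem exists_isGen (x : T) : ∃ η, IsGen η ∧ η ⤳ x := by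
  obtain ⟨ζ, hζ⟩ := QuasiSober.sober (isIrreducible_irreducibleComponent (x := x)) isClosed_irreducibleComponent
  refine ⟨ζ, fun z hz => ?_, hζ.specializes mem_irreducibleComponent⟩
  have h1 : irreducibleComponent x ⊆ closure {z} := by
    rw [← hζ]; exact specializes_iff_closure_subset.1 hz
  have h2 : closure {z} ⊆ irreducibleComponent x :=
    (irreducibleComponent_mem_irreducibleComponents x).2 isIrreducible_singleton.closure h1
  exact (IsGenericPoint.eq (show IsGenericPoint z (irreducibleComponent x) from h2.antisymm h1) hζ)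

theorem finite_isGen [NoetherianSpace T] : {η : T | IsGen η}.Finite := by
  refine Set.Finite.of_finite_image ((NoetherianSpace.finite_irreducibleComponents (α := T)).subset ?_)
    (f := fun η => closure {η}) ?_
  · rintro _ ⟨η, h, rfl⟩
    refine ⟨isIrreducible_singleton.closure, fun Z hZ hle => ?_⟩
    obtain ⟨ζ, hζ⟩ := QuasiSober.sober hZ.closure isClosed_closure
    have hz : ζ ⤳ η := hζ.specializes (subset_closure (hle (subset_closure rfl)))
    show Z ⊆ closure {η}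
    rw [← h ζ hz, hζ]
    exact subset_closure
  · exact fun a _ b _ h => IsGenericPoint.eq (show IsGenericPoint a (closure {b}) from h) rfl

end Topology

/-- The points of `Z` which are maximal under specialisation. -/
def maxPts {P : Type*} [TopologicalSpace P] (Z : Set P) : Set P := {y | y ∈ Z ∧ ∀ z ∈ Z, z ⤳ y → z = y}

theorem exists_maxPts {P : Scheme.{u}} {Z : Set P} (hZ : IsClosed Z) {p : P} (hp : p ∈ Z) :
    ∃ y ∈ maxPts Z, y ⤳ p := by
  haveI : QuasiSober Z := hZ.isClosedEmbedding_subtypeVal.quasiSober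
  obtain ⟨η, hη, hηp⟩ := exists_isGen (⟨p, hp⟩ : Z)
  exact ⟨η.1, ⟨η.2, fun z hz hzy => congrArg Subtype.val (hη ⟨z, hz⟩ ((subtype_specializes_iff _ _).2 hzy))⟩,
    (subtype_specializes_iff _ _).1 hηp⟩

theorem finite_maxPts {P : Scheme.{u}} [NoetherianSpace P] {Z : Set P} (hZ : IsClosed Z) : (maxPts Z).Finite := by
  haveI : QuasiSober Z := hZ.isClosedEmbedding_subtypeVal.quasiSober
  refine ((finite_isGen (T := Z)).image Subtype.val).subset fun y hy => ⟨⟨y, hy.1⟩, fun z hz => ?_, rfl⟩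
  exact Subtype.ext (hy.2 z.1 z.2 ((subtype_specializes_iff _ _).1 hz))

/-- A maximal point of the complement of an open with affine inclusion has only generic points as
proper generisations. -/
theorem isGen_of_mem_maxPts_compl {P : Scheme.{u}} [IsLocallyNoetherian P] (W : P.Opens) [IsAffineHom W.ι]
    {y : P} (hy : y ∈ maxPts ((W : Set P)ᶜ)) {z : P} (hzy : z ⤳ y) (hne : z ≠ y) : IsGen z := by
  obtain ⟨V, hV, hyV, -⟩ := exists_isAffineOpen_mem_and_subset (U := (⊤ : P.Opens)) (x := y) trivial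
  haveI : IsNoetherianRing Γ(P, V) := IsLocallyNoetherian.component_noetherian ⟨V, hV⟩
  have hVW : IsAffineOpen (V ⊓ W) := by
    have := (W.ι.isAffineOpen_iff_of_isOpenImmersion (U := W.ι ⁻¹ᵁ V)).2 (hV.preimage W.ι)
    rwa [Scheme.Hom.image_preimage_eq_opensRange_inf, Scheme.Opens.opensRange_ι, inf_comm] at this
  let Uo := hV.fromSpec ⁻¹ᵁ (V ⊓ W)
  have hUo : IsAffineOpen Uo := hVW.preimage_of_isOpenImmersion _ (by
    rw [hV.opensRange_fromSpec]; exact inf_le_left)
  have hmemV : ∀ q : Spec Γ(P, V), hV.fromSpec q ∈ V := fun q => by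
    have : hV.fromSpec q ∈ Set.range hV.fromSpec := ⟨q, rfl⟩
    rwa [hV.range_fromSpec] at this
  have hmem : ∀ q, q ∈ Uo ↔ hV.fromSpec q ∈ W := fun q => ⟨fun h => h.2, fun h => ⟨hmemV q, h⟩⟩
  have hspec : ∀ a b : Spec Γ(P, V), a.asIdeal ≤ b.asIdeal ↔ hV.fromSpec a ⤳ hV.fromSpec b := fun a b =>
    ((PrimeSpectrum.le_iff_specializes a b).trans hV.fromSpec.isOpenEmbedding.isInducing.specializes_iff.symm)
  obtain ⟨p, hp⟩ : y ∈ Set.range hV.fromSpec := by rw [hV.range_fromSpec]; exact hyV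
  have hh : p.asIdeal.height ≤ 1 := S5161.result Γ(P, V) Uo hUo p (fun h => hy.1 (hp ▸ (hmem p).1 h))
    fun q hq hqU => hV.fromSpec.isOpenEmbedding.injective
      ((hy.2 _ (fun h => hqU ((hmem q).2 h)) (hp ▸ (hspec q p).1 hq)).trans hp.symm)
  intro z' hz'
  obtain ⟨q, rfl⟩ : z ∈ Set.range hV.fromSpec := by rw [hV.range_fromSpec]; exact hzy.mem_open V.2 hyV
  obtain ⟨q', rfl⟩ : z' ∈ Set.range hV.fromSpec := by
    rw [hV.range_fromSpec]; exact hz'.mem_open V.2 (hzy.mem_open V.2 hyV)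
  have hqp : q.asIdeal < p.asIdeal := lt_of_le_of_ne ((hspec q p).2 (hp.symm ▸ hzy))
    fun e => hne (by rw [PrimeSpectrum.ext e, hp])
  rcases ((hspec q' q).2 hz').eq_or_lt with e | e
  · rw [PrimeSpectrum.ext e]
  · exfalso
    have h1 := Ideal.height_strict_mono_of_isPrime e
    have h2 := Ideal.height_strict_mono_of_isPrime hqp
    have h3 : q.asIdeal.height = 0 := Order.lt_one_iff.1 (h2.trans_le hh)
    exact not_lt_zero (h3 ▸ h1)

variable {X S : Scheme.{u}} {f : X ⟶ S} [IsNoetherian S] [Flat f] [QuasiCompact f]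
  [LocallyOfFinitePresentation f] (hS : ∀ s : S, CAlg2.IsGeomUnibranch (S.presheaf.stalk s))
  (hemb : AssSch.NoEmbedded (Coh.structureModule S))

include hS hemb

/-- A directed nonempty family of factorisations has a smallest element. -/
theorem exists_min (P : Fac f → Prop) (hne : ∃ A, P A)
    (hdir : ∀ A B, P A → P B → ∃ C, P C ∧ C.Le A ∧ C.Le B) : ∃ C, P C ∧ ∀ A, P A → C.Le A := by
  classical
  let N : Set ℕ := Fac.deg '' {A | P A}
  have hN : BddAbove N := ⟨_, by rintro _ ⟨A, -, rfl⟩; exact deg_le A⟩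
  obtain ⟨E₀, hE₀, hdeg⟩ := Nat.sSup_mem (hne.elim fun A hA => ⟨_, A, hA, rfl⟩ : N.Nonempty) hN
  have hmax : ∀ A, P A → A.deg ≤ E₀.deg := fun A hA => hdeg ▸ le_csSup hN ⟨A, hA, rfl⟩
  haveI := lfp_u E₀
  let U : E₀.E.Opens := ⟨Set.range E₀.u, E₀.u.isOpenMap.isOpen_range⟩
  let Sig0 := maxPts ((U : Set E₀.E)ᶜ)
  have hSig : Sig0.Finite := finite_maxPts U.2.isClosed_compl
  let φ : Fac f → ℕ := fun A =>
    if h : A.Le E₀ then (Sig0 \ Set.range h.choose).ncard else 0
  let N' : Set ℕ := φ '' {A | P A ∧ A.Le E₀}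
  have hN' : BddAbove N' := ⟨Sig0.ncard, by
    rintro _ ⟨A, ⟨-, hA⟩, rfl⟩
    simp only [φ, dif_pos hA]
    exact Set.ncard_le_ncard Set.sdiff_subset hSig⟩
  obtain ⟨E₁, ⟨hE₁, hE₁le⟩, hφ⟩ := Nat.sSup_mem (⟨_, E₀, ⟨hE₀, E₀.le_refl⟩, rfl⟩ : N'.Nonempty) hN'
  refine ⟨E₁, hE₁, fun A hA => ?_⟩
  obtain ⟨C, hC, hCE, hCA⟩ := hdir E₁ A hE₁ hA
  refine Fac.le_trans ?_ hCA
  have hC0 : C.Le E₀ := Fac.le_trans hCE hE₁le
  have hle : φ C ≤ φ E₁ := hφ ▸ le_csSup hN' ⟨C, ⟨hC, hC0⟩, rfl⟩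
  obtain ⟨w, hw, hw'⟩ := hCE
  simp only [φ, dif_pos hE₁le, dif_pos hC0] at hle
  obtain ⟨hv, hv'⟩ := hE₁le.choose_spec
  obtain ⟨ha, ha'⟩ := hC0.choose_spec
  set v := hE₁le.choose
  set a := hC0.choose
  have hav : a = w ≫ v := C.hom_ext E₀.g a _ (by rw [ha, ← Category.assoc, hw, hv])
    (by rw [ha', Category.assoc, hv', hw'])
  haveI : IsOpenImmersion v := isOpenImmersion_of_deg_eq hS hemb v hv hv'
    ((hmax _ hE₁).trans_eq rfl)
  haveI hao : IsOpenImmersion a := isOpenImmersion_of_deg_eq hS hemb a ha ha' ((hmax _ hC).trans_eq rfl)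
  haveI : IsOpenImmersion (w ≫ v) := hav ▸ hao
  haveI : IsOpenImmersion w := IsOpenImmersion.of_comp w v
  have hsub : Set.range a ⊆ Set.range v := by
    rintro _ ⟨c, rfl⟩; exact ⟨w c, by rw [hav]; rfl⟩
  have heq : Sig0 \ Set.range v = Sig0 \ Set.range a :=
    Set.eq_of_subset_of_ncard_le (Set.sdiff_subset_sdiff_right hsub) hle hSig.sdiff
  have hrange : Set.range v ⊆ Set.range a := by
    intro p hp
    by_contra hpa
    haveI : IsAffineHom a := by
      haveI : IsAffineHom (a ≫ E₀.g) := ha'.symm ▸ inferInstance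
      exact IsAffineHom.of_comp a E₀.g
    haveI : IsAffineHom a.opensRange.ι := by
      rw [← Scheme.Hom.isoOpensRange_inv_comp a]; infer_instance
    obtain ⟨y, hy, hyp⟩ := exists_maxPts a.opensRange.2.isClosed_compl
      (show p ∈ (a.opensRange : Set E₀.E)ᶜ from hpa)
    have hU : (U : Set E₀.E) ⊆ Set.range a := by
      rintro _ ⟨x, rfl⟩; exact ⟨C.u x, by rw [← Scheme.Hom.comp_apply, ha]⟩
    have hySig : y ∈ Sig0 := by
      refine ⟨fun h => hy.1 (hU h), fun z hz hzy => ?_⟩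
      by_contra hzne
      exact hz (E₀.gen_mem_range (isGen_of_mem_maxPts_compl a.opensRange hy hzy hzne))
    exact (heq.ge ⟨hySig, hy.1⟩).2 (hyp.mem_open v.opensRange.2 hp)
  haveI : Surjective w := ⟨fun e => by
    obtain ⟨c, hc⟩ := hrange ⟨e, rfl⟩
    exact ⟨c, v.isOpenEmbedding.injective (by rw [← hc, hav]; rfl)⟩⟩
  haveI : IsIso w := (isIso_iff_isOpenImmersion_and_surjective _).2 ⟨inferInstance, inferInstance⟩
  exact ⟨inv w, by rw [IsIso.comp_inv_eq, hw], by rw [IsIso.inv_comp_eq, hw']⟩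

end Groth.Agent.EtHull15
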