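import Mathlib

/-!
# Formal étaleness is local, and passes to maps between a formally unramified and an étale scheme
-/

universe u

open CategoryTheory Limits AlgebraicGeometry

set_option backward.isDefEq.respectTransparency.types false
set_option linter.style.haveILetI false

namespace Groth.Agent.EtHull15

open Algebra in
theorem formallyEtale_of_span {A B : Type u} [CommRing A] [CommRing B] [Algebra A B] (s : Set B)
    (hs : Ideal.span s = ⊤) (h : ∀ g ∈ s, FormallyEtale A (Localization.Away g)) : FormallyEtale A B := by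
  have key : ∀ (M : Type u) [AddCommGroup M] [Module B M],
      (∀ g ∈ s, ∀ m : M, ∃ n : ℕ, g ^ n • m = 0) → Subsingleton M := by
    intro M _ _ hM
    refine ⟨fun x y => sub_eq_zero.1 ?_⟩
    let J : Ideal B := LinearMap.ker (LinearMap.toSpanSingleton B M (x - y))
    have hJ : J.radical = ⊤ := top_le_iff.1 (hs.ge.trans (Ideal.span_le.2 fun g hg => by
      obtain ⟨n, hn⟩ := hM g hg (x - y)
      exact ⟨n, LinearMap.mem_ker.2 hn⟩))
    have h1 : (1 : B) ∈ J := by rw [Ideal.radical_eq_top.1 hJ]; trivial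
    simpa using LinearMap.mem_ker.1 h1
  refine ⟨key _ fun g hg m => ?_, key _ fun g hg m => ?_⟩
  · haveI := h g hg
    obtain ⟨⟨_, n, rfl⟩, hn⟩ := (IsLocalizedModule.eq_zero_iff (.powers g)
      (KaehlerDifferential.map A A B (Localization.Away g)) (m := m)).1 (Subsingleton.elim _ _)
    exact ⟨n, hn⟩
  · haveI := h g hg
    obtain ⟨⟨_, n, rfl⟩, hn⟩ := (IsLocalizedModule.eq_zero_iff (.powers g)
      (H1Cotangent.map A A B (Localization.Away g)) (m := m)).1 (Subsingleton.elim _ _)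
    exact ⟨n, hn⟩

/-- A map between a formally unramified scheme and an étale one is formally étale. -/
theorem formallyEtale_appLE {E Y S : Scheme.{u}} (m : E ⟶ Y) (b : Y ⟶ S) [FormallyUnramified b]
    [Etale (m ≫ b)] {V : Y.Opens} (hV : IsAffineOpen V) {U : E.Opens} (hU : IsAffineOpen U)
    (e : U ≤ m ⁻¹ᵁ V) : (m.appLE V U e).hom.FormallyEtale := by
  letI := (m.appLE V U e).hom.toAlgebra
  let s : Set Γ(E, U) := {g | Algebra.FormallyEtale Γ(Y, V) (Localization.Away g)}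
  refine formallyEtale_of_span s ?_ fun g hg => hg
  rw [← hU.self_le_iSup_basicOpen_iff]
  intro x hx
  obtain ⟨_, ⟨W, hW, rfl⟩, hxW, -⟩ :=
    S.isBasis_affineOpens.exists_subset_of_mem_open (Set.mem_univ (b (m x))) isOpen_univ
  obtain ⟨f, hfW, hxf⟩ := hV.exists_basicOpen_le (V := b ⁻¹ᵁ W) ⟨m x, hxW⟩ (e hx)
  obtain ⟨g, hgf, hxg⟩ := hU.exists_basicOpen_le (V := m ⁻¹ᵁ Y.basicOpen f) ⟨x, hxf⟩ hx
  refine TopologicalSpace.Opens.mem_iSup.2 ⟨⟨g, ?_⟩, hxg⟩
  change Algebra.FormallyEtale Γ(Y, V) (Localization.Away g)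
  have hgW : E.basicOpen g ≤ (m ≫ b) ⁻¹ᵁ W := fun z hz => hfW (hgf hz)
  let rV : Γ(Y, V) ⟶ Γ(Y, Y.basicOpen f) := Y.presheaf.map (homOfLE (Y.basicOpen_le f)).op
  let rU : Γ(E, U) ⟶ Γ(E, E.basicOpen g) := E.presheaf.map (homOfLE (E.basicOpen_le g)).op
  let α := b.appLE W (Y.basicOpen f) hfW
  let β := m.appLE (Y.basicOpen f) (E.basicOpen g) hgf
  have hαβ : α ≫ β = (m ≫ b).appLE W (E.basicOpen g) hgW := Scheme.Hom.appLE_comp_appLE _ _ _ _ _ _ _
  have hcomm : rV ≫ β = m.appLE V U e ≫ rU := by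
    rw [Scheme.Hom.map_appLE, Scheme.Hom.appLE_map]
  letI := α.hom.toAlgebra
  letI := β.hom.toAlgebra
  letI := (α ≫ β).hom.toAlgebra
  letI := rV.hom.toAlgebra
  letI := rU.hom.toAlgebra
  letI := (rV ≫ β).hom.toAlgebra
  haveI : IsScalarTower Γ(S, W) Γ(Y, Y.basicOpen f) Γ(E, E.basicOpen g) :=
    IsScalarTower.of_algebraMap_eq fun _ => rfl
  haveI : IsScalarTower Γ(Y, V) Γ(Y, Y.basicOpen f) Γ(E, E.basicOpen g) :=
    IsScalarTower.of_algebraMap_eq fun _ => rfl
  haveI : IsScalarTower Γ(Y, V) Γ(E, U) Γ(E, E.basicOpen g) :=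
    IsScalarTower.of_algebraMap_eq fun x => congrArg (fun φ => φ.hom x) hcomm
  haveI : Algebra.Etale Γ(S, W) Γ(E, E.basicOpen g) := by
    have := (m ≫ b).etale_appLE hW (hU.basicOpen g) hgW
    rw [← hαβ] at this
    exact this
  haveI : Algebra.FormallyUnramified Γ(S, W) Γ(Y, Y.basicOpen f) :=
    b.formallyUnramified_appLE hW (hV.basicOpen f) hfW
  haveI : Algebra.FormallyEtale Γ(Y, Y.basicOpen f) Γ(E, E.basicOpen g) :=
    Algebra.FormallyEtale.of_restrictScalars (R := Γ(S, W))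
  haveI : IsLocalization.Away f Γ(Y, Y.basicOpen f) := hV.isLocalization_basicOpen f
  haveI : Algebra.FormallyEtale Γ(Y, V) Γ(Y, Y.basicOpen f) :=
    Algebra.FormallyEtale.of_isLocalization (.powers f)
  haveI : Algebra.FormallyEtale Γ(Y, V) Γ(E, E.basicOpen g) :=
    Algebra.FormallyEtale.comp _ Γ(Y, Y.basicOpen f) _
  haveI : IsLocalization.Away g Γ(E, E.basicOpen g) := hU.isLocalization_basicOpen g
  exact Algebra.FormallyEtale.of_equiv
    ((IsLocalization.algEquiv (.powers g) Γ(E, E.basicOpen g) (Localization.Away g)).restrictScalars Γ(Y, V))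

end Groth.Agent.EtHull15
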