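import Groth.Agent.Lib.EtHull15.Good
import Groth.Agent.Lib.Magnet16.Dense
import Groth.Agent.Lib.SchBasic.Basic
import Groth.Agent.Lib.AlgSpDecent.FlatAt

/-!
# Factorisations through étale affine schemes
-/

universe u

open CategoryTheory Limits AlgebraicGeometry TopologicalSpace IsLocalRing

set_option backward.isDefEq.respectTransparency.types false

namespace Groth.Agent.EtHull15

variable {X S : Scheme.{u}}

/-- A factorisation of `f` through a scheme étale affine over the base with dominant first map. -/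
structure Fac (f : X ⟶ S) : Type (u + 1) where
  E : Scheme.{u}
  g : E ⟶ S
  u : X ⟶ E
  et : Etale g
  aff : IsAffineHom g
  dom : IsSchemeTheoreticallyDominant u
  w : u ≫ g = f

attribute [instance] Fac.et Fac.aff Fac.dom

variable {f : X ⟶ S}

/-- `A` maps to `B`. -/
def Fac.Le (A B : Fac f) : Prop := ∃ v : A.E ⟶ B.E, A.u ≫ v = B.u ∧ v ≫ B.g = A.g

theorem Fac.le_refl (A : Fac f) : A.Le A := ⟨𝟙 _, Category.comp_id _, Category.id_comp _⟩

theorem Fac.le_trans {A B C : Fac f} (h : A.Le B) (h' : B.Le C) : A.Le C := by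
  obtain ⟨v, hv, hv'⟩ := h
  obtain ⟨w, hw, hw'⟩ := h'
  exact ⟨v ≫ w, by rw [← Category.assoc, hv, hw], by rw [Category.assoc, hw', hv']⟩

theorem Fac.hom_ext (A : Fac f) {E : Scheme.{u}} (g : E ⟶ S) [IsSeparated g] (a b : A.E ⟶ E)
    (e : A.u ≫ a = A.u ≫ b) (e' : a ≫ g = b ≫ g) : a = b :=
  Magnet16.eq_of_schDom_of_separated A.u g a b e' e

theorem etale_of_fac {A E : Scheme.{u}} {gA : A ⟶ S} {g : E ⟶ S} [Etale gA] [Etale g] (v : A ⟶ E)
    (h : v ≫ g = gA) : Etale v := by
  haveI : Etale (v ≫ g) := h ▸ inferInstance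
  exact Etale.of_comp v g

theorem flat_of_fac [Flat f] {E : Scheme.{u}} {g : E ⟶ S} [Etale g] (u : X ⟶ E) (h : u ≫ g = f) : Flat u := by
  refine (Flat.iff_flat_stalkMap u).2 fun x => AlgSpDecent.FlatAt.flat_stalkMap_of_comp_etale u g x ?_
  rw [h]
  exact Flat.stalkMap f x

theorem quasiCompact_of_fac [QuasiCompact f] {E : Scheme.{u}} {g : E ⟶ S} [QuasiSeparated g] (u : X ⟶ E)
    (h : u ≫ g = f) : QuasiCompact u := by
  haveI : QuasiCompact (u ≫ g) := h.symm ▸ inferInstance
  exact QuasiCompact.of_comp u g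

instance instFlat [Flat f] (A : Fac f) : Flat A.u := flat_of_fac A.u A.w

instance instQC [QuasiCompact f] (A : Fac f) : QuasiCompact A.u := quasiCompact_of_fac A.u A.w

theorem lfp_u [LocallyOfFinitePresentation f] (A : Fac f) : LocallyOfFinitePresentation A.u := by
  haveI : LocallyOfFinitePresentation (A.u ≫ A.g) := A.w.symm ▸ inferInstance
  exact SchBasic.locallyOfFinitePresentation_of_comp A.u A.g

theorem isNoetherian_of_etale [IsNoetherian S] {E : Scheme.{u}} (g : E ⟶ S) [Etale g] [QuasiCompact g] :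
    IsNoetherian E :=
  haveI : IsLocallyNoetherian E := LocallyOfFiniteType.isLocallyNoetherian g
  haveI : CompactSpace E := QuasiCompact.compactSpace_of_compactSpace g
  ⟨⟩

instance instNoeth [IsNoetherian S] (A : Fac f) : IsNoetherian A.E := isNoetherian_of_etale A.g

theorem good_fac [IsNoetherian S] (hS : ∀ s : S, CAlg2.IsGeomUnibranch (S.presheaf.stalk s))
    (hemb : AssSch.NoEmbedded (Coh.structureModule S)) (A : Fac f) : Good A.E :=
  good_of_etale hS hemb A.g

/-- Generic points lie in the image. -/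
theorem Fac.gen_mem_range [IsNoetherian S] [Flat f] [QuasiCompact f] (A : Fac f) {η : A.E} (h : IsGen η) :
    η ∈ Set.range A.u := by
  let O : Set A.E := (⋃ η' ∈ {η' : A.E | IsGen η' ∧ η' ≠ η}, closure {η'})ᶜ
  have hO : IsOpen O :=
    ((finite_gen.subset fun η' hη' => hη'.1).isClosed_biUnion fun _ _ => isClosed_closure).isOpen_compl
  have hη : η ∈ O := fun hc => by
    obtain ⟨η', hη', hmem⟩ := Set.mem_iUnion₂.1 hc
    exact hη'.2 (h η' (specializes_iff_mem_closure.2 hmem))
  obtain ⟨_, hp, x, rfl⟩ := A.u.denseRange.inter_open_nonempty O hO ⟨η, hη⟩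
  obtain ⟨η', hη', hspec⟩ := exists_gen (A.u x)
  have he : η' = η := by
    by_contra hne
    exact hp (Set.mem_iUnion₂.2 ⟨η', ⟨hη', hne⟩, specializes_iff_mem_closure.1 hspec⟩)
  obtain ⟨x', -, hx'⟩ := Flat.generalizingMap A.u (he ▸ hspec)
  exact ⟨x', hx'⟩

section Factor

variable [IsNoetherian S] [Flat f] [QuasiCompact f] (hS : ∀ s : S, CAlg2.IsGeomUnibranch (S.presheaf.stalk s))
  (hemb : AssSch.NoEmbedded (Coh.structureModule S))

include hS hemb

/-- Every factorisation contains a dominant one, universally. -/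
theorem exists_factor {E : Scheme.{u}} (g : E ⟶ S) [Etale g] [IsAffineHom g] (u : X ⟶ E) (hu : u ≫ g = f) :
    ∃ (C : Fac f) (i : C.E ⟶ E), C.u ≫ i = u ∧ i ≫ g = C.g ∧
      ∀ (D : Fac f) (v : D.E ⟶ E), D.u ≫ v = u → v ≫ g = D.g →
        ∃ w : D.E ⟶ C.E, w ≫ i = v ∧ D.u ≫ w = C.u ∧ w ≫ C.g = D.g := by
  haveI := isNoetherian_of_etale g
  haveI := flat_of_fac u hu
  haveI := quasiCompact_of_fac u hu
  have hE : Good E := good_of_etale hS hemb g
  let C : E.Opens := ⟨comps (Set.range u), (isClopen_comps hE _).2⟩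
  haveI : IsClosedImmersion C.ι := IsClosedImmersion.of_isPreimmersion _ (by
    rw [Scheme.Opens.range_ι]; exact (isClopen_comps hE _).1)
  have hrange : Set.range u ⊆ Set.range C.ι := by
    rw [Scheme.Opens.range_ι]
    rintro _ ⟨x, rfl⟩
    obtain ⟨η, hη, hηx⟩ := exists_gen (u x)
    obtain ⟨x', -, hx'⟩ := Flat.generalizingMap u hηx
    exact ⟨η, hη, ⟨x', hx'⟩, hηx⟩
  let u' := IsOpenImmersion.lift C.ι u hrange
  have hu' : u' ≫ C.ι = u := IsOpenImmersion.lift_fac _ _ _
  have hw : u' ≫ C.ι ≫ g = f := by rw [← Category.assoc, hu', hu]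
  haveI := flat_of_fac u' hw
  haveI := quasiCompact_of_fac u' hw
  haveI := isNoetherian_of_etale (C.ι ≫ g)
  haveI : IsSchemeTheoreticallyDominant u' :=
    isSchemeTheoreticallyDominant_of_flat (good_of_etale hS hemb (C.ι ≫ g)) u' fun η hη => by
      have h1 : IsGen (C.ι η) := fun z hz => by
        obtain ⟨z', -, rfl⟩ := Flat.generalizingMap C.ι hz
        exact congrArg C.ι (hη z' (C.ι.isOpenEmbedding.isInducing.specializes_iff.1 hz))
      obtain ⟨η', hη', ⟨x, hx⟩, hspec⟩ := (show C.ι η ∈ comps (Set.range u) from η.2)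
      refine ⟨x, C.ι.isOpenEmbedding.injective ?_⟩
      rw [← Scheme.Hom.comp_apply, hu', hx, h1 η' hspec]
  refine ⟨⟨_, C.ι ≫ g, u', inferInstance, inferInstance, inferInstance, hw⟩, C.ι, hu', rfl, fun D v hv hv' => ?_⟩
  haveI := etale_of_fac v hv'
  have hsub : Set.range v ⊆ Set.range C.ι := by
    rw [Scheme.Opens.range_ι]
    rintro _ ⟨e, rfl⟩
    obtain ⟨η, hη, hηe⟩ := exists_gen e
    obtain ⟨x, rfl⟩ := D.gen_mem_range hη
    exact ⟨v (D.u x), isGen_map v hη, ⟨x, by rw [← hv]; rfl⟩, hηe.map v.continuous⟩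
  refine ⟨IsOpenImmersion.lift C.ι v hsub, IsOpenImmersion.lift_fac _ _ _, ?_, ?_⟩
  · rw [← cancel_mono C.ι, Category.assoc, IsOpenImmersion.lift_fac]
    exact hv.trans hu'.symm
  · show _ ≫ C.ι ≫ g = _
    rw [← Category.assoc, IsOpenImmersion.lift_fac, hv']

/-- The supremum of two factorisations. -/
theorem exists_sup (A B : Fac f) :
    ∃ C : Fac f, C.Le A ∧ C.Le B ∧ ∀ D : Fac f, D.Le A → D.Le B → D.Le C := by
  haveI : IsAffineHom (pullback.fst A.g B.g) := MorphismProperty.pullback_fst (P := @IsAffineHom) _ _ B.aff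
  obtain ⟨C, i, hi, hi', huniv⟩ := exists_factor (f := f) hS hemb (pullback.fst A.g B.g ≫ A.g)
    (pullback.lift A.u B.u (A.w.trans B.w.symm)) (by rw [pullback.lift_fst_assoc, A.w])
  refine ⟨C, ⟨i ≫ pullback.fst _ _, by rw [← Category.assoc, hi, pullback.lift_fst], by rw [Category.assoc, hi']⟩,
    ⟨i ≫ pullback.snd _ _, by rw [← Category.assoc, hi, pullback.lift_snd],
      by rw [Category.assoc, ← pullback.condition, hi']⟩, ?_⟩
  rintro D ⟨a, ha, ha'⟩ ⟨b, hb, hb'⟩
  obtain ⟨w, -, hw, hw'⟩ := huniv D (pullback.lift a b (ha'.trans hb'.symm))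
    (by apply pullback.hom_ext <;> simp only [Category.assoc, pullback.lift_fst, pullback.lift_snd, ha, hb]) (by rw [pullback.lift_fst_assoc, ha'])
  exact ⟨w, hw, hw'⟩

/-- The trivial factorisation. -/
theorem exists_trivial [Surjective f] : ∃ T : Fac f, ∀ A : Fac f, A.Le T := by
  haveI : IsSchemeTheoreticallyDominant f :=
    isSchemeTheoreticallyDominant_of_flat (good_of_etale hS hemb (𝟙 S)) f fun η _ => f.surjective η
  exact ⟨⟨S, 𝟙 S, f, inferInstance, inferInstance, inferInstance, Category.comp_id f⟩,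
    fun A => ⟨A.g, A.w, Category.comp_id _⟩⟩

end Factor

end Groth.Agent.EtHull15
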