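import Groth.Agent.Lib.AssPts11.Basic
import Groth.Agent.Lib.EtStalk.FiniteSplit
import Groth.Agent.Lib.Branch14.EtaleNbhd
import Groth.Agent.Lib.CurveCoh17.Integral
import Mathlib.AlgebraicGeometry.Morphisms.QuasiFinite
import Mathlib.AlgebraicGeometry.Morphisms.Etale
import Mathlib.AlgebraicGeometry.Morphisms.SchemeTheoreticallyDominant
import Mathlib.AlgebraicGeometry.Morphisms.UniversallyOpen

/-!
# Schemes with disjoint irreducible components and without embedded points
-/

universe u

open CategoryTheory Limits AlgebraicGeometry TopologicalSpace IsLocalRing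

set_option backward.isDefEq.respectTransparency.types false

namespace Groth.Agent.EtHull15

/-- No other point specialises to `x`. -/
def IsGen {X : Type*} [TopologicalSpace X] (x : X) : Prop := ∀ z, z ⤳ x → z = x

/-- Disjoint irreducible components and no embedded points. -/
structure Good (P : Scheme.{u}) : Prop where
  uniq : ∀ {x η η' : P}, IsGen η → IsGen η' → η ⤳ x → η' ⤳ x → η = η'
  ass : ∀ x ∈ AssSch.Ass (Coh.structureModule P), IsGen x

section Gen

variable {P : Scheme.{u}}

theorem exists_gen (x : P) : ∃ η, IsGen η ∧ η ⤳ x := by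
  obtain ⟨ζ, hζ⟩ := QuasiSober.sober (isIrreducible_irreducibleComponent (x := x)) isClosed_irreducibleComponent
  refine ⟨ζ, fun z hz => ?_, hζ.specializes mem_irreducibleComponent⟩
  have h1 : irreducibleComponent x ⊆ closure {z} := by
    rw [← hζ]; exact specializes_iff_closure_subset.1 hz
  have h2 : closure {z} ⊆ irreducibleComponent x :=
    (irreducibleComponent_mem_irreducibleComponents x).2 isIrreducible_singleton.closure h1
  exact (IsGenericPoint.eq (show IsGenericPoint z (irreducibleComponent x) from h2.antisymm h1) hζ)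

theorem closure_mem_irreducibleComponents {η : P} (h : IsGen η) : closure {η} ∈ irreducibleComponents P := by
  refine ⟨isIrreducible_singleton.closure, fun Z hZ hle => ?_⟩
  obtain ⟨ζ, hζ⟩ := QuasiSober.sober hZ.closure isClosed_closure
  have hz : ζ ⤳ η := hζ.specializes (subset_closure (hle (subset_closure rfl)))
  rw [← h ζ hz, hζ]
  exact subset_closure

theorem finite_gen [NoetherianSpace P] : {η : P | IsGen η}.Finite := by
  refine Set.Finite.of_finite_image ((NoetherianSpace.finite_irreducibleComponents (α := P)).subset ?_)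
    (f := fun η => closure {η}) ?_
  · rintro _ ⟨η, hη, rfl⟩; exact closure_mem_irreducibleComponents hη
  · exact fun a _ b _ h => IsGenericPoint.eq (show IsGenericPoint a (closure {b}) from h) rfl

theorem isGen_mem_ass {η : P} (h : IsGen η) : η ∈ AssSch.Ass (Coh.structureModule P) := by
  haveI : Coh.IsQCoh (Coh.structureModule P) := M1.isQCoh_structureModule P
  have : Nontrivial ((Coh.structureModule P).presheaf.stalk η) := by
    obtain ⟨e⟩ := CurveCoh17.nonempty_stalk_equiv_structureModule η
    exact e.toEquiv.nontrivial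
  obtain ⟨z, hz, hzη⟩ := AssPts11.exists_ass_specializes (F := Coh.structureModule P) this
  exact h z hzη ▸ hz

/-- The union of the components through the generic points in `A`. -/
def comps (A : Set P) : Set P := {x | ∃ η, IsGen η ∧ η ∈ A ∧ η ⤳ x}

theorem isClopen_comps [NoetherianSpace P] (hP : Good P) (A : Set P) : IsClopen (comps A) := by
  have hcl : ∀ B : Set P, IsClosed (comps B) := fun B => by
    have : comps B = ⋃ η ∈ {η : P | IsGen η ∧ η ∈ B}, closure {η} := by
      ext x; simp [comps, specializes_iff_mem_closure, and_assoc]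
    rw [this]
    exact (finite_gen.subset fun η hη => hη.1).isClosed_biUnion fun _ _ => isClosed_closure
  refine ⟨hcl A, ?_⟩
  have : comps A = (comps Aᶜ)ᶜ := by
    ext x
    refine ⟨fun ⟨η, h1, h2, h3⟩ ⟨η', h1', h2', h3'⟩ => h2' (hP.uniq h1 h1' h3 h3' ▸ h2), fun hx => ?_⟩
    obtain ⟨η, hη, hηx⟩ := exists_gen x
    exact ⟨η, hη, not_not.1 fun hA => hx ⟨η, hη, hA, hηx⟩, hηx⟩
  rw [this]
  exact (hcl _).isOpen_compl

end Gen

theorem isGen_map {X Y : Scheme.{u}} (f : X ⟶ Y) [Flat f] {x : X} (hx : IsGen x) : IsGen (f x) := fun z hz => by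
  obtain ⟨x', hx', rfl⟩ := Flat.generalizingMap f hz
  rw [hx x' hx']

theorem isGen_of_map {X Y : Scheme.{u}} (f : X ⟶ Y) [LocallyQuasiFinite f] {x : X} (hx : IsGen (f x)) :
    IsGen x := fun z hz => by
  have he := hx _ (hz.map f.continuous)
  haveI := (f.isDiscrete_preimage_singleton (f x)).to_subtype
  have : (⟨z, he⟩ : f ⁻¹' {f x}) ⤳ ⟨x, rfl⟩ := (subtype_specializes_iff _ _).2 hz
  exact congrArg Subtype.val this.eq

theorem ass_map {X Y : Scheme.{u}} (f : X ⟶ Y) [Flat f] [IsLocallyNoetherian Y] {x : X}
    (hx : x ∈ AssSch.Ass (Coh.structureModule X)) (hX : IsLocallyNoetherian X) :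
    f x ∈ AssSch.Ass (Coh.structureModule Y) := by
  by_contra hy
  obtain ⟨a, hau, hareg⟩ := AssPts11.exists_nonZeroDivisor_of_not_ass hy
  obtain ⟨v, hv⟩ := (WA.isAssPoint_iff x).1 hx
  have hv0 := WA.ne_zero_of_radical_ann hv
  let _ := (f.stalkMap x).hom.toAlgebra
  have hfl : Module.Flat (Y.presheaf.stalk (f x)) (X.presheaf.stalk x) := Flat.stalkMap f x
  obtain ⟨e⟩ := CurveCoh17.nonempty_stalk_equiv_structureModule x
  obtain ⟨n, hn⟩ : f.stalkMap x a ∈ (WA.annStalk v).radical := by
    rw [hv]
    exact fun hu => hau ((isUnit_map_iff (f.stalkMap x).hom a).1 hu)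
  rw [WA.mem_annStalk, ← map_pow] at hn
  refine hv0 (e.injective (funext fun i => ?_))
  have h1 : f.stalkMap x (a ^ n) * e v i = 0 := by
    have h2 := congrArg (fun w => e w i) hn
    simpa [map_smul] using h2
  rw [map_zero, Pi.zero_apply]
  have hreg : IsSMulRegular (X.presheaf.stalk x) (a ^ n) :=
    Module.Flat.isSMulRegular_of_nonZeroDivisors (pow_mem hareg n)
  exact hreg.right_eq_zero_of_smul h1

/-- Étale schemes over a geometrically unibranch noetherian scheme without embedded points. -/
theorem good_of_etale {P S : Scheme.{u}} [IsLocallyNoetherian S]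
    (hS : ∀ s : S, CAlg2.IsGeomUnibranch (S.presheaf.stalk s))
    (hemb : AssSch.NoEmbedded (Coh.structureModule S)) (g : P ⟶ S) [Etale g] : Good P where
  uniq {x η η'} h h' hx hx' := by
    have h1 := (Branch14.isGeomUnibranch_stalk_iff S (g x)).1 (hS _) P g x inferInstance rfl
    obtain ⟨Z, hZ⟩ := Set.encard_eq_one.1 h1
    have e : ∀ {a : P}, IsGen a → a ⤳ x → closure {a} = Z := fun {a} ha hax => by
      have : closure {a} ∈ ({Z} : Set (Set P)) :=
        hZ ▸ ⟨closure_mem_irreducibleComponents ha, specializes_iff_mem_closure.1 hax⟩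
      exact this
    exact IsGenericPoint.eq (show IsGenericPoint η (closure {η'}) from (e h hx).trans (e h' hx').symm) rfl
  ass x hx := by
    haveI : IsLocallyNoetherian P := LocallyOfFiniteType.isLocallyNoetherian g
    have hgx := ass_map g hx inferInstance
    haveI := FiniteSplit.locallyQuasiFinite_of_etale g
    refine isGen_of_map g fun z hz => ?_
    obtain ⟨η, hη, hηz⟩ := exists_gen z
    have : g x = η := hemb _ hgx _ (isGen_mem_ass hη) (hηz.trans hz)
    exact (hη z (this ▸ hz)).trans this.symm

/-- A flat quasi-compact map hitting all generic points is scheme-theoretically dominant. -/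
theorem isSchemeTheoreticallyDominant_of_flat {X P : Scheme.{u}} [IsLocallyNoetherian P] (hP : Good P) (u : X ⟶ P)
    [Flat u] [QuasiCompact u] (h : ∀ η : P, IsGen η → η ∈ Set.range u) : IsSchemeTheoreticallyDominant u := by
  rw [isSchemeTheoreticallyDominant_iff]
  refine Scheme.IdealSheafData.ext ?_
  funext ⟨V, hV⟩
  rw [Scheme.Hom.ker_apply, Scheme.IdealSheafData.ideal_bot, Pi.bot_apply, eq_bot_iff]
  intro a ha
  rw [RingHom.mem_ker] at ha
  rw [Submodule.mem_bot]
  refine TopCat.Presheaf.section_ext P.sheaf V a 0 fun y hy => ?_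
  by_contra hne
  haveI : Coh.IsQCoh (Coh.structureModule P) := M1.isQCoh_structureModule P
  obtain ⟨z, hzV, hzy, hwa, hz⟩ := WA.exists_weakAss (F := Coh.structureModule P) hV hy
    (show Γ(Coh.structureModule P, V) from a) (fun h' => hne (((WA.germ_O_eq_zero_iff hy a).1 h').trans (map_zero _).symm))
  obtain ⟨x, rfl⟩ := h z (hP.ass z (AssPts11.mem_ass_iff.2 hwa))
  refine hz ((WA.germ_O_eq_zero_iff hzV a).2 ?_)
  let _ := (u.stalkMap x).hom.toAlgebra
  haveI : Module.Flat (P.presheaf.stalk (u x)) (X.presheaf.stalk x) := Flat.stalkMap u x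
  haveI : IsLocalHom (algebraMap (P.presheaf.stalk (u x)) (X.presheaf.stalk x)) :=
    inferInstanceAs (IsLocalHom (u.stalkMap x).hom)
  haveI : Module.FaithfullyFlat (P.presheaf.stalk (u x)) (X.presheaf.stalk x) :=
    Module.FaithfullyFlat.of_flat_of_isLocalHom
  refine FaithfulSMul.algebraMap_injective (P.presheaf.stalk (u x)) (X.presheaf.stalk x) ?_
  rw [map_zero]
  show u.stalkMap x _ = 0
  rw [Scheme.Hom.germ_stalkMap_apply, ha, map_zero]

end Groth.Agent.EtHull15
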