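import Groth.Agent.Lib.EtHull15.UnramFac
import Groth.Prelude.Def_Frob

/-!
# Initial étale objects are initial among formally unramified ones
-/

universe u

open CategoryTheory Limits AlgebraicGeometry TopologicalSpace

set_option backward.isDefEq.respectTransparency.types false
set_option linter.style.haveILetI false

namespace Groth.Agent.EtHull15

variable {X P S : Scheme.{u}}

theorem qc_qs_of_noetherianSpace {E T : Scheme.{u}} [NoetherianSpace E] (f : E ⟶ T) :
    QuasiCompact f ∧ QuasiSeparated f := by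
  refine ⟨⟨fun U _ _ => NoetherianSpace.isCompact _⟩, ?_⟩
  haveI : QuasiSeparatedSpace E := ⟨fun _ _ _ _ _ _ => NoetherianSpace.isCompact _⟩
  infer_instance

theorem noetherianSpace_source [IsNoetherian S] (a : X ⟶ S) [LocallyOfFiniteType a] [QuasiCompact a] :
    NoetherianSpace X := by
  haveI : IsLocallyNoetherian X := LocallyOfFiniteType.isLocallyNoetherian a
  haveI : CompactSpace X := QuasiCompact.compactSpace_of_compactSpace a
  haveI : IsNoetherian X := {}
  infer_instance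

theorem initial_formallyUnramified [IsNoetherian S]
    (a : X ⟶ S) [Flat a] [LocallyOfFinitePresentation a] [QuasiCompact a]
    (c : P ⟶ S) [Etale c] [QuasiCompact c] [QuasiSeparated c]
    (ϖ : X ⟶ P) (hϖ : ϖ ≫ c = a)
    (hinit : ∀ (E : Scheme.{u}) (e : E ⟶ S), Etale e → QuasiCompact e → QuasiSeparated e →
      ∀ k : X ⟶ E, k ≫ e = a → ∃! l : P ⟶ E, ϖ ≫ l = k ∧ l ≫ e = c)
    (Y : Scheme.{u}) (b : Y ⟶ S) [FormallyUnramified b] (k : X ⟶ Y) (hk : k ≫ b = a) :
    ∃! l : P ⟶ Y, ϖ ≫ l = k ∧ l ≫ b = c := by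
  subst hk
  obtain ⟨E, v, m, hme, -, hvs, -, -, -, hvm⟩ := exists_etale_mono_factorization k b
  haveI := noetherianSpace_source (k ≫ b)
  haveI : NoetherianSpace E := noetherianSpace_of_surjective v v.continuous v.surjective
  obtain ⟨l', ⟨hl'₁, hl'₂⟩, -⟩ := hinit E (m ≫ b) hme (qc_qs_of_noetherianSpace _).1
    (qc_qs_of_noetherianSpace _).2 v (by rw [reassoc_of% hvm])
  refine ⟨l' ≫ m, ⟨by rw [reassoc_of% hl'₁, hvm], by rw [Category.assoc, hl'₂]⟩, ?_⟩
  rintro l₁ ⟨h₁, h₁'⟩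
  have h₂ : ϖ ≫ l' ≫ m = k := by rw [reassoc_of% hl'₁, hvm]
  have h₂' : (l' ≫ m) ≫ b = c := by rw [Category.assoc, hl'₂]
  generalize l' ≫ m = l₂ at h₂ h₂' ⊢
  haveI := noetherianSpace_source c
  haveI : IsLocallyNoetherian P := LocallyOfFiniteType.isLocallyNoetherian c
  let g : P ⟶ pullback b b := pullback.lift l₁ l₂ (h₁'.trans h₂'.symm)
  let ι : pullback g (pullback.diagonal b) ⟶ P := pullback.fst g (pullback.diagonal b)
  haveI : IsImmersion ι := MorphismProperty.pullback_fst _ _ inferInstance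
  have heq : ∀ {T : Scheme.{u}} (t : T ⟶ P), t ≫ l₁ = t ≫ l₂ →
      t ≫ g = (t ≫ l₁) ≫ pullback.diagonal b := fun t ht => by
    apply pullback.hom_ext <;>
      simp [g, pullback.lift_fst, pullback.lift_snd, pullback.diagonal_fst, pullback.diagonal_snd, ht]
  have hι : ι ≫ l₁ = ι ≫ l₂ := by
    have e₁ := pullback.condition (f := g) (g := pullback.diagonal b) =≫ pullback.fst b b
    have e₂ := pullback.condition (f := g) (g := pullback.diagonal b) =≫ pullback.snd b b
    simp [g, pullback.lift_fst, pullback.lift_snd, pullback.diagonal_fst, pullback.diagonal_snd] at e₁ e₂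
    exact e₁.trans e₂.symm
  haveI : IsOpenImmersion ι := isOpenImmersion_of_lifts ι fun A B φ hφ hker t s hs => by
    have : t ≫ l₁ = t ≫ l₂ := hom_ext_sqZero b φ hφ hker
      (by rw [← reassoc_of% hs, ← reassoc_of% hs, hι])
      (by rw [Category.assoc, Category.assoc, h₁', h₂'])
    exact ⟨pullback.lift t (t ≫ l₁) (heq t this), pullback.lift_fst _ _ _⟩
  haveI : NoetherianSpace ↑(pullback g (pullback.diagonal b)) :=
    ι.isEmbedding.isInducing.noetherianSpace
  let ϖK : X ⟶ pullback g (pullback.diagonal b) :=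
    pullback.lift ϖ (ϖ ≫ l₁) (heq ϖ (h₁.trans h₂.symm))
  have hϖK : ϖK ≫ ι = ϖ := pullback.lift_fst _ _ _
  obtain ⟨l, ⟨hl, hl'⟩, -⟩ := hinit _ (ι ≫ c) (MorphismProperty.comp_mem _ _ _ inferInstance ‹_›)
    (qc_qs_of_noetherianSpace _).1 (qc_qs_of_noetherianSpace _).2 ϖK
    (by rw [reassoc_of% hϖK, hϖ])
  obtain ⟨l₀, -, hu⟩ := hinit P c ‹_› ‹_› ‹_› ϖ hϖ
  have h0 : l ≫ ι = 𝟙 P := (hu (l ≫ ι) ⟨by rw [reassoc_of% hl, hϖK], by rw [Category.assoc, hl']⟩).trans
    (hu (𝟙 P) ⟨Category.comp_id _, Category.id_comp _⟩).symm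
  rw [← Category.id_comp l₁, ← Category.id_comp l₂, ← h0, Category.assoc, Category.assoc, hι]

theorem formallyUnramified_of_isIso_relFrob {p : ℕ} [Fact p.Prime] [FrobSch.IsCharP S p]
    {Y : Scheme.{u}} (b : Y ⟶ S) [IsIso (FrobSch.relFrob b p)] : FormallyUnramified b := by
  haveI := FrobSch.IsCharP.of_hom b p
  refine FormallyUnramified.of_hom_ext b fun A B φ hφ hker g₁ g₂ hg hgb => ?_
  haveI := FrobSch.IsCharP.of_hom (g₁ ≫ b) p
  let π := Spec.preimage (FrobSch.frob (Spec A) p)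
  have hπ : ∀ r : A, π.hom r = r ^ p := fun r => by
    have h1 : (Spec.map π).appTop ≫ (Scheme.ΓSpecIso A).hom = (Scheme.ΓSpecIso A).hom ≫ π :=
      Scheme.ΓSpecIso_naturality π
    obtain ⟨x, rfl⟩ := (ConcreteCategory.bijective_of_isIso (Scheme.ΓSpecIso A).hom).2 r
    have h2 := congrArg (fun f => f.hom x) h1
    rw [Spec.map_preimage] at h2
    change (Scheme.ΓSpecIso A).hom.hom ((FrobSch.frob (Spec A) p).appTop x) = π.hom ((Scheme.ΓSpecIso A).hom.hom x) at h2
    rw [FrobSch.frob_appTop, map_pow] at h2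
    exact h2.symm
  have hle : RingHom.ker φ.hom ≤ RingHom.ker π.hom := fun x hx => by
    rw [RingHom.mem_ker, hπ]
    have h2 : x ^ 2 = 0 := by
      have : x ^ 2 ∈ RingHom.ker φ.hom ^ 2 := Ideal.pow_mem_pow hx 2
      rw [hker] at this; exact this
    exact pow_eq_zero_of_le (Fact.out : p.Prime).two_le h2
  let ψ : B ⟶ A := CommRingCat.ofHom (φ.hom.liftOfRightInverse (Function.surjInv hφ) (Function.rightInverse_surjInv hφ)
    ⟨π.hom, hle⟩)
  have hψ : φ ≫ ψ = π := by
    ext x; exact RingHom.liftOfRightInverse_comp_apply _ _ (Function.rightInverse_surjInv hφ) ⟨π.hom, hle⟩ x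
  have hfr : FrobSch.frob (Spec A) p = Spec.map ψ ≫ Spec.map φ := by
    rw [← Spec.map_comp, hψ, Spec.map_preimage]
  rw [← cancel_mono (FrobSch.relFrob b p)]
  apply pullback.hom_ext
  · rw [Category.assoc, Category.assoc, FrobSch.relFrob_fst, ← FrobSch.frob_comp p g₁,
      ← FrobSch.frob_comp p g₂, hfr, Category.assoc, Category.assoc, hg]
  · rw [Category.assoc, Category.assoc, FrobSch.relFrob_snd, hgb]

end Groth.Agent.EtHull15
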