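import Mathlib

/-!
# Immersions with unique infinitesimal lifts into noetherian schemes
-/

universe u

open CategoryTheory Limits AlgebraicGeometry

set_option backward.isDefEq.respectTransparency.types false
set_option linter.style.haveILetI false

namespace Groth.Agent.EtHull15

/-- Square-zero lifts exist for `i`. -/
def HasSqZeroLifts {K T : Scheme.{u}} (i : K ⟶ T) : Prop :=
  ∀ (A B : CommRingCat.{u}) (φ : A ⟶ B), Function.Surjective φ → RingHom.ker φ.hom ^ 2 = ⊥ →
    ∀ (g : Spec A ⟶ T) (k : Spec B ⟶ K), k ≫ i = Spec.map φ ≫ g → ∃ l : Spec A ⟶ K, l ≫ i = g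

theorem isOpenImmersion_Spec_of_lifts {R : CommRingCat.{u}} [IsNoetherianRing R] {K : Scheme.{u}}
    (i : K ⟶ Spec R) [IsClosedImmersion i] (H : HasSqZeroLifts i) : IsOpenImmersion i := by
  obtain ⟨I, e, rfl⟩ := IsClosedImmersion.Spec_iff.1 ‹IsClosedImmersion i›
  suffices IsOpenImmersion (Spec.map (CommRingCat.ofHom (Ideal.Quotient.mk I))) by infer_instance
  rw [isOpenImmersion_SpecMap_iff_of_surjective _ Ideal.Quotient.mk_surjective, CommRingCat.hom_ofHom,
    Ideal.mk_ker]
  refine (Ideal.isIdempotentElem_iff_of_fg _ (IsNoetherian.noetherian I)).1 ?_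
  change I * I = I
  refine le_antisymm Ideal.mul_le_left fun x hx => ?_
  have hle : I ^ 2 ≤ I := Ideal.pow_le_self two_ne_zero
  let φ : CommRingCat.of (R ⧸ I ^ 2) ⟶ CommRingCat.of (R ⧸ I) :=
    CommRingCat.ofHom (Ideal.Quotient.factor hle)
  let m₂ : R ⟶ CommRingCat.of (R ⧸ I ^ 2) := CommRingCat.ofHom (Ideal.Quotient.mk (I ^ 2))
  have hm : m₂ ≫ φ = CommRingCat.ofHom (Ideal.Quotient.mk I) := by
    ext r; simp [m₂, φ]
  obtain ⟨l, hl⟩ := H _ _ φ (Ideal.Quotient.factor_surjective hle)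
    (by
      simp only [φ, CommRingCat.hom_ofHom]
      rw [Ideal.Quotient.factor_ker, ← Ideal.map_pow, Ideal.map_quotient_self])
    (Spec.map m₂) e.inv (by rw [e.inv_hom_id_assoc, ← Spec.map_comp, hm])
  let ψ := Spec.preimage (l ≫ e.hom)
  have hψ : CommRingCat.ofHom (Ideal.Quotient.mk I) ≫ ψ = m₂ := by
    apply Spec.map_injective
    rw [Spec.map_comp, Spec.map_preimage, Category.assoc, hl]
  have h1 : Ideal.Quotient.mk (I ^ 2) x = ψ.hom (Ideal.Quotient.mk I x) :=
    (congrArg (fun f : R ⟶ CommRingCat.of (R ⧸ I ^ 2) => f.hom x) hψ).symm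
  rw [Ideal.Quotient.eq_zero_iff_mem.2 hx, map_zero, Ideal.Quotient.eq_zero_iff_mem, pow_two] at h1
  exact h1

theorem isOpenImmersion_of_lifts {K T : Scheme.{u}} [IsLocallyNoetherian T] (i : K ⟶ T) [IsImmersion i]
    (H : HasSqZeroLifts i) : IsOpenImmersion i := by
  suffices IsOpenImmersion i.liftCoborder by
    rw [← i.liftCoborder_ι]; infer_instance
  have hc : IsClosedImmersion i.liftCoborder := inferInstance
  refine IsZariskiLocalAtTarget.of_openCover (P := @IsOpenImmersion)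
    i.coborderRange.toScheme.affineCover fun j => ?_
  let T₀ := i.coborderRange.toScheme
  haveI : IsLocallyNoetherian (T₀.affineCover.X j) :=
    isLocallyNoetherian_of_isOpenImmersion (T₀.affineCover.f j)
  obtain ⟨R, hR⟩ : ∃ R, T₀.affineCover.X j = Spec R := ⟨_, rfl⟩
  have key : ∀ (X : Scheme.{u}) (g : X ⟶ T₀) [IsOpenImmersion g], X = Spec R → IsLocallyNoetherian X →
      IsOpenImmersion (pullback.snd i.liftCoborder g) := by
    rintro X g _ rfl hX
    haveI : IsNoetherianRing R := isLocallyNoetherian_Spec.1 hX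
    refine isOpenImmersion_Spec_of_lifts _ fun A B φ hφ hk t k hkt => ?_
    obtain ⟨l, hl⟩ := H A B φ hφ hk (t ≫ g ≫ i.coborderRange.ι) (k ≫ pullback.fst _ _) (by
      have : pullback.fst i.liftCoborder g ≫ i =
          pullback.snd i.liftCoborder g ≫ g ≫ i.coborderRange.ι :=
        (congrArg (pullback.fst i.liftCoborder g ≫ ·) i.liftCoborder_ι).symm.trans
          (pullback.condition_assoc _)
      rw [Category.assoc, this, reassoc_of% hkt])
    have hl' : l ≫ i.liftCoborder = t ≫ g := by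
      rw [← cancel_mono i.coborderRange.ι, Category.assoc, i.liftCoborder_ι, hl, Category.assoc]
    exact ⟨pullback.lift l t hl', pullback.lift_snd _ _ _⟩
  exact key _ _ hR inferInstance

theorem isNilpotent_ker_SpecMap {A B : CommRingCat.{u}} (φ : A ⟶ B) (hφ : RingHom.ker φ.hom ^ 2 = ⊥) :
    IsNilpotent (Spec.map φ).ker := by
  refine ⟨2, Scheme.IdealSheafData.ext_of_isAffine ?_⟩
  rw [Scheme.IdealSheafData.ideal_pow, Pi.pow_apply, Scheme.Hom.ker_apply]
  change RingHom.ker (Spec.map φ).appTop.hom ^ 2 = ⊥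
  have h : (Spec.map φ).appTop = (Scheme.ΓSpecIso A).hom ≫ φ ≫ (Scheme.ΓSpecIso B).inv := by simp
  rw [h]
  have hb := ConcreteCategory.bijective_of_isIso (Scheme.ΓSpecIso A).hom
  have hι := ConcreteCategory.bijective_of_isIso (Scheme.ΓSpecIso B).inv
  refine (Ideal.map_eq_bot_iff_of_injective (f := (Scheme.ΓSpecIso A).hom.hom) hb.1).1 ?_
  rw [Ideal.map_pow, eq_bot_iff, ← hφ]
  refine Ideal.pow_right_mono (Ideal.map_le_iff_le_comap.2 fun x hx => ?_) 2
  rw [Ideal.mem_comap, RingHom.mem_ker]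
  apply hι.1
  rw [map_zero]
  exact hx

/-- Two lifts along a square-zero thickening into a formally unramified morphism agree. -/
theorem hom_ext_sqZero {Y S : Scheme.{u}} (b : Y ⟶ S) [FormallyUnramified b] {A B : CommRingCat.{u}}
    (φ : A ⟶ B) (hs : Function.Surjective φ) (hφ : RingHom.ker φ.hom ^ 2 = ⊥) {g₁ g₂ : Spec A ⟶ Y}
    (h₁ : Spec.map φ ≫ g₁ = Spec.map φ ≫ g₂) (h₂ : g₁ ≫ b = g₂ ≫ b) : g₁ = g₂ := by
  haveI : IsClosedImmersion (Spec.map φ) := IsClosedImmersion.spec_of_surjective _ hs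
  exact FormallyUnramified.hom_ext (Spec.map φ) (isNilpotent_ker_SpecMap φ hφ) b h₁ h₂

end Groth.Agent.EtHull15
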