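import Groth.Agent.Lib.EtHull15.Fac
import Groth.Agent.Lib.Weight4.Mult

/-!
# Dominance and radicial base change
-/

universe u

open CategoryTheory Limits AlgebraicGeometry TopologicalSpace IsLocalRing

set_option backward.isDefEq.respectTransparency.types false

namespace Groth.Agent.EtHull15

variable {X P S : Scheme.{u}}

/-- Associated points of an etale scheme. -/
theorem mem_ass_iff_of_etale [IsLocallyNoetherian S] (g : P ⟶ S) [Etale g] (e : P) :
    e ∈ AssSch.Ass (Coh.structureModule P) ↔ g e ∈ AssSch.Ass (Coh.structureModule S) := by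
  haveI : IsLocallyNoetherian P := LocallyOfFiniteType.isLocallyNoetherian g
  refine ⟨fun h => ass_map g h inferInstance, fun hs => by_contra fun he => ?_⟩
  obtain ⟨a, hau, hareg⟩ := AssPts11.exists_nonZeroDivisor_of_not_ass he
  obtain ⟨v, hv⟩ := (WA.isAssPoint_iff (g e)).1 hs
  have hv0 := WA.ne_zero_of_radical_ann hv
  obtain ⟨eS⟩ := CurveCoh17.nonempty_stalk_equiv_structureModule (g e)
  let _ := (g.stalkMap e).hom.toAlgebra
  haveI : Module.Flat (S.presheaf.stalk (g e)) (P.presheaf.stalk e) := Flat.stalkMap g e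
  haveI : IsLocalHom (algebraMap (S.presheaf.stalk (g e)) (P.presheaf.stalk e)) :=
    inferInstanceAs (IsLocalHom (g.stalkMap e).hom)
  haveI : Module.FaithfullyFlat (S.presheaf.stalk (g e)) (P.presheaf.stalk e) :=
    Module.FaithfullyFlat.of_flat_of_isLocalHom
  obtain ⟨i, hi⟩ : ∃ i, eS v i ≠ 0 := Function.ne_iff.1 (fun h => hv0 (eS.injective (h.trans (map_zero eS).symm)))
  let w := eS v i
  let J : Ideal (S.presheaf.stalk (g e)) := LinearMap.ker (LinearMap.toSpanSingleton _ (S.presheaf.stalk (g e)) w)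
  have hJ : maximalIdeal _ ≤ J.radical := fun b hb => by
    rw [← hv] at hb
    obtain ⟨n, hn⟩ := hb
    rw [WA.mem_annStalk] at hn
    refine ⟨n, ?_⟩
    have h1 := congrArg (fun t => eS t i) hn
    simpa [J, w, map_smul] using h1
  obtain ⟨n, hn⟩ := Ideal.exists_pow_le_of_le_radical_of_fg hJ (IsNoetherian.noetherian _)
  have hmap : (maximalIdeal (S.presheaf.stalk (g e))).map (g.stalkMap e).hom = maximalIdeal _ :=
    Weight.map_maximalIdeal_stalkMap g e
  have ha : a ^ n ∈ ((maximalIdeal (S.presheaf.stalk (g e))) ^ n).map (g.stalkMap e).hom := by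
    rw [Ideal.map_pow, hmap]
    exact Ideal.pow_mem_pow hau n
  have hzero : a ^ n * g.stalkMap e w = 0 := by
    have : ((maximalIdeal (S.presheaf.stalk (g e))) ^ n).map (g.stalkMap e).hom ≤
        LinearMap.ker (LinearMap.toSpanSingleton (P.presheaf.stalk e) (P.presheaf.stalk e) (g.stalkMap e w)) :=
      Ideal.map_le_iff_le_comap.2 fun b hb => by
        show g.stalkMap e b * g.stalkMap e w = 0
        rw [← map_mul, show b * w = 0 from hn hb, map_zero]
    exact this ha
  have h0 : g.stalkMap e w = 0 :=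
    (mem_nonZeroDivisors_iff_right.1 (pow_mem hareg n)) _ (by rw [mul_comm]; exact hzero)
  exact hi (FaithfulSMul.algebraMap_injective (S.presheaf.stalk (g e)) (P.presheaf.stalk e)
    (h0.trans (map_zero _).symm))

/-- Dominance of a flat map in terms of associated points. -/
theorem isSchemeTheoreticallyDominant_iff_ass [IsLocallyNoetherian P] (u : X ⟶ P) [Flat u] :
    IsSchemeTheoreticallyDominant u ↔ AssSch.Ass (Coh.structureModule P) ⊆ Set.range u := by
  haveI : Coh.IsQCoh (Coh.structureModule P) := M1.isQCoh_structureModule P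
  refine ⟨fun hu e he => by_contra fun hne => ?_, fun h => ?_⟩
  · let O : P.Opens := ⟨(closure {e})ᶜ, isClosed_closure.isOpen_compl⟩
    have hsub : Set.range u ⊆ Set.range O.ι := by
      rw [Scheme.Opens.range_ι]
      rintro _ ⟨x, rfl⟩ hx
      obtain ⟨x', -, hx'⟩ := Flat.generalizingMap u (specializes_iff_mem_closure.2 hx)
      exact hne ⟨x', hx'⟩
    haveI : IsSchemeTheoreticallyDominant O.ι := by
      rw [isSchemeTheoreticallyDominant_iff, eq_bot_iff, ← u.ker_eq_bot, ← IsOpenImmersion.lift_fac O.ι u hsub]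
      exact Scheme.Hom.le_ker_comp _ _
    have hass : AssSch.Ass (Coh.structureModule P) ⊆ (O : Set P) := by
      refine AssPts11.ass_subset_of_injective O fun V _ s hs => ?_
      change (show Γ(P, V) from s) = (0 : Γ(P, V))
      refine O.ι.app_injective V ?_
      rw [map_zero, Scheme.Opens.ι_app]
      have hle : O.ι ''ᵁ O.ι ⁻¹ᵁ V ≤ V ⊓ O := le_of_eq (by
        rw [Scheme.Hom.image_preimage_eq_opensRange_inf, Scheme.Opens.opensRange_ι, inf_comm])
      have h1 : P.presheaf.map (homOfLE (inf_le_left : V ⊓ O ≤ V)).op (show Γ(P, V) from s) = 0 := hs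
      have h2 := congrArg (P.presheaf.map (homOfLE hle).op) h1
      rw [map_zero, ← CommRingCat.comp_apply, ← Functor.map_comp] at h2
      exact h2
    exact hass he (subset_closure rfl)
  · rw [isSchemeTheoreticallyDominant_iff, eq_bot_iff]
    intro V a ha
    have ha : u.app V.1 a = 0 := Scheme.IdealSheafData.ideal_ofIdeals_le _ V ha
    rw [Scheme.IdealSheafData.ideal_bot, Pi.bot_apply, Submodule.mem_bot]
    refine TopCat.Presheaf.section_ext P.sheaf V.1 a 0 fun y hy => ?_
    by_contra hne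
    obtain ⟨z, hzV, hzy, hwa, hz⟩ := WA.exists_weakAss (F := Coh.structureModule P) V.2 hy
      (show Γ(Coh.structureModule P, V.1) from a) (fun h' => hne (((WA.germ_O_eq_zero_iff hy a).1 h').trans (map_zero _).symm))
    obtain ⟨x, rfl⟩ := h (AssPts11.mem_ass_iff.2 hwa)
    refine hz ((WA.germ_O_eq_zero_iff hzV a).2 ?_)
    let _ := (u.stalkMap x).hom.toAlgebra
    haveI : Module.Flat (P.presheaf.stalk (u x)) (X.presheaf.stalk x) := Flat.stalkMap u x
    haveI : IsLocalHom (algebraMap (P.presheaf.stalk (u x)) (X.presheaf.stalk x)) :=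
      inferInstanceAs (IsLocalHom (u.stalkMap x).hom)
    haveI : Module.FaithfullyFlat (P.presheaf.stalk (u x)) (X.presheaf.stalk x) :=
      Module.FaithfullyFlat.of_flat_of_isLocalHom
    refine FaithfulSMul.algebraMap_injective (P.presheaf.stalk (u x)) (X.presheaf.stalk x) ?_
    rw [map_zero]
    show u.stalkMap x _ = 0
    rw [Scheme.Hom.germ_stalkMap_apply, ha, map_zero]

/-- Without changes of embedded points, associated points correspond along a homeomorphism. -/
theorem mem_ass_iff_of_homeo {S' : Scheme.{u}} (f : S' ⟶ S) [IsIntegralHom f] [UniversallyInjective f] [Surjective f]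
    (hemb : ∀ s' : S', (s' ∈ AssSch.Ass (Coh.structureModule S') ∧ ∃ t ∈ AssSch.Ass (Coh.structureModule S'), t ⤳ s' ∧ t ≠ s') ↔
      (f s' ∈ AssSch.Ass (Coh.structureModule S) ∧ ∃ t ∈ AssSch.Ass (Coh.structureModule S), t ⤳ f s' ∧ t ≠ f s'))
    (s' : S') : s' ∈ AssSch.Ass (Coh.structureModule S') ↔ f s' ∈ AssSch.Ass (Coh.structureModule S) := by
  have hemb' : Topology.IsEmbedding f :=
    (Topology.IsClosedEmbedding.of_continuous_injective_isClosedMap f.continuous f.injective f.isClosedMap).isEmbedding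
  have hgen : IsGen s' ↔ IsGen (f s') := by
    refine ⟨fun h z hz => ?_, fun h z hz => f.injective (h _ (hz.map f.continuous))⟩
    obtain ⟨z', rfl⟩ := f.surjective z
    rw [h z' (hemb'.isInducing.specializes_iff.1 hz)]
  have key : ∀ {Q : Scheme.{u}} {x : Q}, x ∈ AssSch.Ass (Coh.structureModule Q) →
      (¬ ∃ t ∈ AssSch.Ass (Coh.structureModule Q), t ⤳ x ∧ t ≠ x) → IsGen x := fun {Q x} hx hnot z hz => by
    obtain ⟨η, hη, hηz⟩ := exists_gen z
    have hηx : η = x := by_contra fun hne => hnot ⟨η, isGen_mem_ass hη, hηz.trans hz, hne⟩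
    exact (hη z (hηx ▸ hz)).trans hηx
  constructor
  · intro h
    by_cases ht : ∃ t ∈ AssSch.Ass (Coh.structureModule S'), t ⤳ s' ∧ t ≠ s'
    · exact ((hemb s').1 ⟨h, ht⟩).1
    · exact isGen_mem_ass (hgen.1 (key h ht))
  · intro h
    by_cases ht : ∃ t ∈ AssSch.Ass (Coh.structureModule S), t ⤳ f s' ∧ t ≠ f s'
    · exact ((hemb s').2 ⟨h, ht⟩).1
    · exact isGen_mem_ass (hgen.2 (key h ht))

theorem dominant_iff_baseChange {E S' E' X' : Scheme.{u}}
    [IsLocallyNoetherian S] [IsLocallyNoetherian S'] (f : S' ⟶ S) [IsIntegralHom f]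
    [UniversallyInjective f] [Surjective f]
    (hass : ∀ s' : S', s' ∈ AssSch.Ass (Coh.structureModule S') ↔ f s' ∈ AssSch.Ass (Coh.structureModule S))
    (a : X ⟶ S) [Flat a] (g : E ⟶ S) [Etale g] (u : X ⟶ E) (hu : u ≫ g = a)
    (g' : E' ⟶ S') (φ : E' ⟶ E) (hE : IsPullback φ g' g f)
    (u' : X' ⟶ E') (ψ : X' ⟶ X) (hX : IsPullback ψ u' u φ) :
    IsSchemeTheoreticallyDominant u ↔ IsSchemeTheoreticallyDominant u' := by
  haveI : IsLocallyNoetherian E := LocallyOfFiniteType.isLocallyNoetherian g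
  haveI : Etale g' := MorphismProperty.of_isPullback hE ‹Etale g›
  haveI : IsLocallyNoetherian E' := LocallyOfFiniteType.isLocallyNoetherian g'
  haveI : Flat u := flat_of_fac u hu
  haveI : Flat u' := MorphismProperty.of_isPullback hX ‹Flat u›
  haveI : Surjective φ := MorphismProperty.of_isPullback hE.flip ‹Surjective f›
  haveI : UniversallyInjective φ := MorphismProperty.of_isPullback hE.flip ‹UniversallyInjective f›
  have hA : ∀ e' : E', e' ∈ AssSch.Ass (Coh.structureModule E') ↔ φ e' ∈ AssSch.Ass (Coh.structureModule E) := fun e' => by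
    rw [mem_ass_iff_of_etale g', mem_ass_iff_of_etale g, hass, ← Scheme.Hom.comp_apply, ← Scheme.Hom.comp_apply, hE.w]
  have hR : ∀ e' : E', e' ∈ Set.range u' ↔ φ e' ∈ Set.range u := fun e' => by
    constructor
    · rintro ⟨x, rfl⟩
      exact ⟨ψ x, by rw [← Scheme.Hom.comp_apply, ← Scheme.Hom.comp_apply, hX.w]⟩
    · rintro ⟨x, hx⟩
      obtain ⟨z, -, hz⟩ := Scheme.Pullback.exists_preimage_pullback (f := u) (g := φ) x e' hx
      refine ⟨hX.isoPullback.inv z, ?_⟩
      rw [← Scheme.Hom.comp_apply, hX.isoPullback_inv_snd, hz]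
  rw [isSchemeTheoreticallyDominant_iff_ass, isSchemeTheoreticallyDominant_iff_ass]
  constructor
  · exact fun h e' he' => (hR e').2 (h ((hA e').1 he'))
  · intro h e he
    obtain ⟨e', rfl⟩ := φ.surjective e
    exact (hR e').1 (h ((hA e').2 he))

end Groth.Agent.EtHull15
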