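import Groth.Agent.Lib.EtHull15.Fac
import Groth.Agent.Lib.NormFin18.Field
import Groth.Agent.Lib.NormFin18.Apps
import Groth.Agent.Lib.Weight4.Mult
import Mathlib.AlgebraicGeometry.Morphisms.FlatMono

/-!
# The degree of a factorisation
-/

universe u

open CategoryTheory Limits AlgebraicGeometry TopologicalSpace IsLocalRing

set_option backward.isDefEq.respectTransparency.types false

namespace Groth.Agent.EtHull15

variable {X S : Scheme.{u}} {f : X ⟶ S}

theorem fieldRange_le {X Y Z : Scheme.{u}} {u : X ⟶ Y} {g : Y ⟶ Z} {h : X ⟶ Z} (hw : u ≫ g = h) (x : X) :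
    (h.residueFieldMap x).hom.fieldRange ≤ (u.residueFieldMap x).hom.fieldRange := by
  subst hw
  rw [Scheme.residueFieldMap_comp]
  rintro _ ⟨a, rfl⟩
  exact ⟨_, rfl⟩

theorem surjective_of_fieldRange_le {X Y Z : Scheme.{u}} {u : X ⟶ Y} {g : Y ⟶ Z} {h : X ⟶ Z} (hw : u ≫ g = h)
    (x : X) (hle : (u.residueFieldMap x).hom.fieldRange ≤ (h.residueFieldMap x).hom.fieldRange) :
    Function.Surjective (g.residueFieldMap (u x)) := fun z => by
  subst hw
  rw [Scheme.residueFieldMap_comp] at hle
  obtain ⟨a, ha⟩ := hle ⟨z, rfl⟩
  exact ⟨a, (u.residueFieldMap x).hom.injective ha⟩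

theorem isIntegral_of_mem_fieldRange {X Y Z : Scheme.{u}} {u : X ⟶ Y} {g : Y ⟶ Z} [Etale g] {h : X ⟶ Z}
    (hw : u ≫ g = h) (x : X) (y : X.residueField x) (hy : y ∈ (u.residueFieldMap x).hom.fieldRange) :
    IsIntegral (h.residueFieldMap x).hom.fieldRange y := by
  subst hw
  obtain ⟨z, rfl⟩ := hy
  letI := (g.residueFieldMap (u x)).hom.toAlgebra
  haveI : Algebra.IsSeparable (Z.residueField (g (u x))) (Y.residueField (u x)) :=
    Weight.isSeparable_residueFieldMap g (u x)
  obtain ⟨p, hp, hp0⟩ := Algebra.IsIntegral.isIntegral (R := Z.residueField (g (u x))) z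
  refine ⟨p.map ((u ≫ g).residueFieldMap x).hom.rangeRestrictField, hp.map _, ?_⟩
  rw [Polynomial.eval₂_map]
  have : (algebraMap ((u ≫ g).residueFieldMap x).hom.fieldRange (X.residueField x)).comp
      ((u ≫ g).residueFieldMap x).hom.rangeRestrictField =
      (u.residueFieldMap x).hom.comp (algebraMap (Z.residueField (g (u x))) (Y.residueField (u x))) := by
    ext a
    show ((u ≫ g).residueFieldMap x).hom a = _
    rw [Scheme.residueFieldMap_comp]
    rfl
  rw [this]
  exact (Polynomial.hom_eval₂ p _ (u.residueFieldMap x).hom z).symm.trans ((congrArg _ hp0).trans (map_zero _))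

/-- The residue field of the image, inside the residue field of the source. -/
noncomputable def Fac.resField (A : Fac f) (x : X) :
    IntermediateField (f.residueFieldMap x).hom.fieldRange (X.residueField x) :=
  (A.u.residueFieldMap x).hom.fieldRange.toIntermediateField fun k => fieldRange_le A.w x k.2

theorem resField_le_algebraicClosure (A : Fac f) (x : X) :
    A.resField x ≤ algebraicClosure (f.residueFieldMap x).hom.fieldRange (X.residueField x) := fun y hy =>
  mem_algebraicClosure_iff.2 (isIntegral_of_mem_fieldRange A.w x y hy).isAlgebraic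

theorem finite_algebraicClosure_residue [LocallyOfFiniteType f] (x : X) :
    Module.Finite (f.residueFieldMap x).hom.fieldRange
      (algebraicClosure (f.residueFieldMap x).hom.fieldRange (X.residueField x)) := by
  let φ := (f.residueFieldMap x).hom
  letI : Algebra (S.residueField (f x)) (X.residueField x) := φ.toAlgebra
  letI : Algebra (S.residueField (f x)) φ.fieldRange := φ.rangeRestrictField.toAlgebra
  haveI : IsScalarTower (S.residueField (f x)) φ.fieldRange (X.residueField x) :=
    IsScalarTower.of_algebraMap_eq fun _ => rfl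
  haveI : Algebra.EssFiniteType (S.residueField (f x)) (X.residueField x) :=
    RingHom.essFiniteType_algebraMap.1 (NormFin18.essFiniteType_residueFieldMap f x)
  haveI : Algebra.EssFiniteType φ.fieldRange (X.residueField x) :=
    Algebra.EssFiniteType.of_comp (S.residueField (f x)) φ.fieldRange (X.residueField x)
  exact NormFin18.finite_algebraicClosure φ.fieldRange (X.residueField x)

variable [IsNoetherian S] [Flat f] [QuasiCompact f] [LocallyOfFiniteType f]

theorem noetherian_source (f : X ⟶ S) [QuasiCompact f] [LocallyOfFiniteType f] : IsNoetherian X :=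
  haveI : IsLocallyNoetherian X := LocallyOfFiniteType.isLocallyNoetherian f
  haveI : CompactSpace X := QuasiCompact.compactSpace_of_compactSpace f
  ⟨⟩

theorem finite_genX (f : X ⟶ S) [QuasiCompact f] [LocallyOfFiniteType f] : {x : X | IsGen x}.Finite :=
  haveI := noetherian_source f
  finite_gen

theorem image_gen (A : Fac f) : A.u '' {x | IsGen x} = {η | IsGen η} := by
  refine Set.Subset.antisymm ?_ fun η hη => ?_
  · rintro _ ⟨x, hx, rfl⟩; exact isGen_map A.u hx
  · obtain ⟨x', rfl⟩ := A.gen_mem_range hη
    obtain ⟨x, hx, hxx⟩ := exists_gen x'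
    exact ⟨x, hx, hη _ (hxx.map A.u.continuous)⟩

/-- The degree: the number of generic points and the residue degrees. -/
noncomputable def Fac.deg (A : Fac f) : ℕ :=
  (∑ x ∈ (finite_genX f).toFinset, Module.finrank (f.residueFieldMap x).hom.fieldRange (A.resField x)) +
    {η : A.E | IsGen η}.ncard

theorem deg_le (A : Fac f) : A.deg ≤ (∑ x ∈ (finite_genX f).toFinset, Module.finrank (f.residueFieldMap x).hom.fieldRange
    (algebraicClosure (f.residueFieldMap x).hom.fieldRange (X.residueField x))) + {x : X | IsGen x}.ncard := by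
  refine Nat.add_le_add (Finset.sum_le_sum fun x _ => ?_) ?_
  · haveI := finite_algebraicClosure_residue (f := f) x
    exact IntermediateField.finrank_le_of_le_right (resField_le_algebraicClosure A x)
  · rw [← image_gen A]
    exact Set.ncard_image_le (finite_genX f)

theorem resField_le {A B : Fac f} (v : A.E ⟶ B.E) (h : A.u ≫ v = B.u) (x : X) : B.resField x ≤ A.resField x :=
  fun _ hy => fieldRange_le h x hy

theorem finite_resField (A : Fac f) (x : X) : Module.Finite (f.residueFieldMap x).hom.fieldRange (A.resField x) :=
  haveI := finite_algebraicClosure_residue (f := f) x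
  Module.Finite.of_injective (IntermediateField.inclusion (resField_le_algebraicClosure A x)).toLinearMap
    (IntermediateField.inclusion_injective (resField_le_algebraicClosure A x))

theorem image_gen_hom {A B : Fac f} (v : A.E ⟶ B.E) (h : A.u ≫ v = B.u) :
    v '' {η | IsGen η} = {η | IsGen η} := by
  rw [← image_gen A, ← image_gen B, Set.image_image]
  exact Set.image_congr fun x _ => by rw [← Scheme.Hom.comp_apply, h]

theorem deg_mono {A B : Fac f} (h : A.Le B) : B.deg ≤ A.deg := by
  obtain ⟨v, hv, -⟩ := h
  refine Nat.add_le_add (Finset.sum_le_sum fun x _ => ?_) ?_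
  · haveI := finite_resField A x
    exact IntermediateField.finrank_le_of_le_right (resField_le v hv x)
  · rw [← image_gen_hom v hv]
    exact Set.ncard_image_le finite_gen

theorem eq_data_of_deg_eq {A B : Fac f} (v : A.E ⟶ B.E) (h : A.u ≫ v = B.u) (hd : A.deg ≤ B.deg) :
    Set.InjOn v {η | IsGen η} ∧ ∀ η : A.E, IsGen η → Function.Surjective (v.residueFieldMap η) := by
  have h1 : ∀ x ∈ (finite_genX f).toFinset, Module.finrank (f.residueFieldMap x).hom.fieldRange (B.resField x) ≤
      Module.finrank (f.residueFieldMap x).hom.fieldRange (A.resField x) := fun x _ => by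
    haveI := finite_resField A x
    exact IntermediateField.finrank_le_of_le_right (resField_le v h x)
  have h2 : {η : B.E | IsGen η}.ncard ≤ {η : A.E | IsGen η}.ncard := by
    rw [← image_gen_hom v h]; exact Set.ncard_image_le finite_gen
  have hs := Finset.sum_le_sum h1
  have hd' : (∑ x ∈ (finite_genX f).toFinset, Module.finrank (f.residueFieldMap x).hom.fieldRange (A.resField x)) +
      {η : A.E | IsGen η}.ncard ≤ (∑ x ∈ (finite_genX f).toFinset,
        Module.finrank (f.residueFieldMap x).hom.fieldRange (B.resField x)) + {η : B.E | IsGen η}.ncard := hd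
  refine ⟨?_, fun η hη => ?_⟩
  · refine (Set.ncard_image_iff finite_gen).1 ?_
    rw [image_gen_hom v h]
    omega
  · obtain ⟨x, hx, rfl⟩ : η ∈ A.u '' {x | IsGen x} := by rw [image_gen A]; exact hη
    refine surjective_of_fieldRange_le h x ?_
    have he := (Finset.sum_eq_sum_iff_of_le h1).1 (by omega) x ((Set.Finite.mem_toFinset _).2 hx)
    haveI := finite_resField A x
    exact fun y hy => (IntermediateField.eq_of_le_of_finrank_eq (resField_le v h x) he).ge hy

omit [Flat f] [QuasiCompact f] [LocallyOfFiniteType f] in
/-- An etale separated map which is birational is an open immersion. -/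
theorem isOpenImmersion_of_birational {A E : Scheme.{u}} (v : A ⟶ E) [Etale v] [IsSeparated v]
    (hgood : Good (pullback v v)) (hinj : Set.InjOn v {η | IsGen η})
    (hres : ∀ η : A, IsGen η → Function.Surjective (v.residueFieldMap η)) : IsOpenImmersion v := by
  let π₁ := pullback.fst v v
  let π₂ := pullback.snd v v
  have hgen : ∀ q : ↥(pullback v v), IsGen q → q ∈ Set.range (pullback.diagonal v) := fun q hq => by
    have ha : IsGen (π₁ q) := isGen_map π₁ hq
    have hb : IsGen (π₂ q) := isGen_map π₂ hq
    have he : π₁ q = π₂ q := hinj ha hb (by rw [← Scheme.Hom.comp_apply, ← Scheme.Hom.comp_apply, pullback.condition])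
    have hepi : Epi (v.residueFieldMap (π₁ q)) := ConcreteCategory.epi_of_surjective _ (hres _ ha)
    have hcond : π₁ ≫ v = π₂ ≫ v := pullback.condition
    have hl : (pullback v v).fromSpecResidueField q ≫ π₁ = (pullback v v).fromSpecResidueField q ≫ π₂ := by
      rw [← Scheme.Hom.SpecMap_residueFieldMap_fromSpecResidueField, ← Scheme.Hom.SpecMap_residueFieldMap_fromSpecResidueField]
      have hcomp := Scheme.Hom.residueFieldMap_congr hcond q
      rw [Scheme.residueFieldMap_comp, Scheme.residueFieldMap_comp] at hcomp
      have h2 : π₁.residueFieldMap q = (A.residueFieldCongr he).hom ≫ π₂.residueFieldMap q := by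
        rw [← cancel_epi (v.residueFieldMap (π₁ q)), hcomp]
        exact (Category.assoc _ _ _).symm.trans ((congrArg (fun t => t ≫ π₂.residueFieldMap q)
          (Scheme.Hom.residueFieldMap_congr' (f := v) he).symm).trans (Category.assoc _ _ _))
      rw [h2, Spec.map_comp, Category.assoc, Scheme.residueFieldCongr_fromSpecResidueField]
    have h3 : (pullback v v).fromSpecResidueField q =
        ((pullback v v).fromSpecResidueField q ≫ π₁) ≫ pullback.diagonal v := by
      apply pullback.hom_ext
      · simp [π₁]
      · rw [Category.assoc, Category.assoc, pullback.diagonal_snd, Category.comp_id, hl]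
    have h4 := congrArg (fun m => m (IsLocalRing.closedPoint _)) h3
    simp only [Scheme.Hom.comp_apply, Scheme.fromSpecResidueField_apply] at h4
    exact ⟨_, h4.symm⟩
  have hsurj : Function.Surjective (pullback.diagonal v) := fun q => by
    obtain ⟨η, hη, hηq⟩ := exists_gen q
    exact hηq.mem_closed (pullback.diagonal v).isClosedEmbedding.isClosed_range (hgen η hη)
  haveI : Surjective (pullback.diagonal v) := ⟨hsurj⟩
  haveI : IsOpenImmersion (pullback.diagonal v) := inferInstance
  haveI : IsIso (pullback.diagonal v) := (isIso_iff_isOpenImmersion_and_surjective _).2 ⟨inferInstance, inferInstance⟩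
  haveI : Mono v := (pullback.isIso_diagonal_iff v).1 inferInstance
  exact IsOpenImmersion.of_flat_of_mono v

/-- A map of factorisations of equal degree is an open immersion. -/
theorem isOpenImmersion_of_deg_eq (hS : ∀ s : S, CAlg2.IsGeomUnibranch (S.presheaf.stalk s))
    (hemb : AssSch.NoEmbedded (Coh.structureModule S)) {A B : Fac f} (v : A.E ⟶ B.E) (h : A.u ≫ v = B.u)
    (h' : v ≫ B.g = A.g) (hd : A.deg ≤ B.deg) : IsOpenImmersion v := by
  obtain ⟨h1, h2⟩ := eq_data_of_deg_eq v h hd
  haveI := etale_of_fac v h'
  haveI : IsSeparated v := by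
    haveI : IsSeparated (v ≫ B.g) := h' ▸ inferInstance
    exact IsSeparated.of_comp v B.g
  exact isOpenImmersion_of_birational v (good_of_etale hS hemb (pullback.fst v v ≫ A.g)) h1 h2

end Groth.Agent.EtHull15
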