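import Groth.Agent.Lib.EtHull15.Hull
import Groth.Agent.Lib.Hartogs3.Scheme
import Groth.Agent.Lib.RegLoc.Unramified
import Groth.Agent.Lib.RegLoc.UFD
import Groth.Agent.Lib.SchDesc12.LQF

/-!
# Etale affine hulls over regular schemes
-/

universe u

open CategoryTheory Limits AlgebraicGeometry TopologicalSpace IsLocalRing

set_option backward.isDefEq.respectTransparency.types false

namespace Groth.Agent.EtHull15

variable {E S : Scheme.{u}}

theorem isRegularLocalRing_stalk_of_etale [IsLocallyNoetherian S] (g : E ⟶ S) [Etale g] (e : E)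
    (h : IsRegularLocalRing (S.presheaf.stalk (g e))) : IsRegularLocalRing (E.presheaf.stalk e) := by
  haveI : IsLocallyNoetherian E := LocallyOfFiniteType.isLocallyNoetherian g
  let _ := (g.stalkMap e).hom.toAlgebra
  haveI : Module.Flat (S.presheaf.stalk (g e)) (E.presheaf.stalk e) := Flat.stalkMap g e
  haveI : IsLocalHom (algebraMap (S.presheaf.stalk (g e)) (E.presheaf.stalk e)) :=
    inferInstanceAs (IsLocalHom (g.stalkMap e).hom)
  exact (RegLoc.isRegularLocalRing_iff_of_map_maximalIdeal (R := S.presheaf.stalk (g e))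
    (Weight.map_maximalIdeal_stalkMap g e)).1 h

theorem fromSpec_specializes {V : E.Opens} (hV : IsAffineOpen V) {a b : Spec Γ(E, V)} :
    hV.fromSpec a ⤳ hV.fromSpec b ↔ a.asIdeal ≤ b.asIdeal :=
  hV.fromSpec.isOpenEmbedding.isInducing.specializes_iff.trans (PrimeSpectrum.le_iff_specializes a b).symm

theorem primeIdealOf_fromSpec {V : E.Opens} (hV : IsAffineOpen V) (q : Spec Γ(E, V)) (hq : hV.fromSpec q ∈ V) :
    hV.primeIdealOf ⟨hV.fromSpec q, hq⟩ = q :=
  hV.fromSpec.isOpenEmbedding.injective (hV.fromSpec_primeIdealOf _)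

/-- On a regular scheme the complement of finitely many closures of points of codimension at most one has
affine inclusion. -/
theorem isAffineHom_compl_closures [IsLocallyNoetherian E] (hreg : ∀ e : E, IsRegularLocalRing (E.presheaf.stalk e))
    {D : Set E} (hD : D.Finite) (hcodim : ∀ y ∈ D, ∀ z, z ⤳ y → z ≠ y → IsGen z)
    (W : E.Opens) (hW : ∀ e, e ∈ W ↔ ∀ y ∈ D, ¬ y ⤳ e) : IsAffineHom W.ι := by
  classical
  refine isAffineHom_of_forall_exists_isAffineOpen _ fun e => ?_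
  let O : E.Opens := ⟨(⋃ y ∈ {y | y ∈ D ∧ ¬ y ⤳ e}, closure {y})ᶜ,
    ((hD.subset fun y hy => hy.1).isClosed_biUnion fun _ _ => isClosed_closure).isOpen_compl⟩
  have heO : e ∈ O := fun hc => by
    obtain ⟨y, hy, hye⟩ := Set.mem_iUnion₂.1 hc
    exact hy.2 (specializes_iff_mem_closure.2 hye)
  obtain ⟨V, hV, heV, hVO⟩ := exists_isAffineOpen_mem_and_subset (U := O) (x := e) heO
  haveI : IsNoetherianRing Γ(E, V) := IsLocallyNoetherian.component_noetherian ⟨V, hV⟩
  let P := hV.primeIdealOf ⟨e, heV⟩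
  let _ := TopCat.Presheaf.algebra_section_stalk E.presheaf (⟨e, heV⟩ : V)
  haveI hloc : IsLocalization.AtPrime (E.presheaf.stalk e) P.asIdeal := hV.isLocalization_stalk ⟨e, heV⟩
  haveI := hreg e
  haveI := RegLoc.isDomain (E.presheaf.stalk e)
  haveI := RegLoc.ufd_of_isRegularLocalRing (E.presheaf.stalk e)
  have key : ∀ y : {y // y ∈ D ∧ y ⤳ e}, ∃ (π t : Γ(E, V)), t ∉ P.asIdeal ∧
      (∀ q : Spec Γ(E, V), t ∉ q.asIdeal → (π ∈ q.asIdeal ↔ y.1 ⤳ hV.fromSpec q)) := by
    rintro ⟨y, hyD, hye⟩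
    obtain ⟨p, rfl⟩ : y ∈ Set.range hV.fromSpec := by rw [hV.range_fromSpec]; exact hye.mem_open V.2 heV
    have hpP : p.asIdeal ≤ P.asIdeal := (fromSpec_specializes hV).1 (by rw [hV.fromSpec_primeIdealOf]; exact hye)
    have hdisj : Disjoint (P.asIdeal.primeCompl : Set Γ(E, V)) (p.asIdeal : Set Γ(E, V)) :=
      Set.disjoint_left.2 fun a ha hap => ha (hpP hap)
    have hh : p.asIdeal.height ≤ (1 : ℕ) := by
      rw [Ideal.height_le_iff]
      intro q hq hqp
      have hgen : IsGen (hV.fromSpec ⟨q, hq⟩) := hcodim _ hyD _ ((fromSpec_specializes hV).2 hqp.le)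
        fun h => hqp.ne (congrArg PrimeSpectrum.asIdeal (hV.fromSpec.isOpenEmbedding.injective h))
      rw [Nat.cast_one, Order.lt_one_iff, Ideal.height_eq_zero_iff]
      refine ⟨⟨hq, bot_le⟩, fun q' hq' hle => ?_⟩
      have := hV.fromSpec.isOpenEmbedding.injective
        (hgen _ ((fromSpec_specializes hV (a := ⟨q', hq'.1⟩) (b := ⟨q, hq⟩)).2 hle))
      exact (congrArg PrimeSpectrum.asIdeal this).ge
    let p' := p.asIdeal.map (algebraMap Γ(E, V) (E.presheaf.stalk e))
    haveI : p'.IsPrime := IsLocalization.isPrime_of_isPrime_disjoint P.asIdeal.primeCompl _ _ p.2 hdisj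
    obtain ⟨⟨g, hg⟩⟩ : p'.IsPrincipal := by
      by_cases h0 : p'.height = 0
      · rw [Ideal.height_eq_zero_iff_eq_bot.1 h0]; exact bot_isPrincipal
      · exact UniqueFactorizationMonoid.isPrincipal_of_height_eq_one (le_antisymm
          ((IsLocalization.height_map_of_disjoint P.asIdeal.primeCompl p.asIdeal hdisj).trans_le hh)
          (Order.one_le_iff_ne_zero.2 h0))
    obtain ⟨⟨a, s⟩, hs⟩ := IsLocalization.surj P.asIdeal.primeCompl g
    have hgp : g ∈ p' := hg.ge (Submodule.mem_span_singleton_self g)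
    have hap : a ∈ p.asIdeal := by
      have h1 : algebraMap Γ(E, V) (E.presheaf.stalk e) a ∈ p' := hs ▸ p'.mul_mem_right _ hgp
      have h2 := IsLocalization.under_map_of_isPrime_disjoint P.asIdeal.primeCompl (E.presheaf.stalk e) p.2 hdisj
      exact h2.le h1
    have hb : ∀ b ∈ p.asIdeal, ∃ t ∉ P.asIdeal, ∃ c, t * b = c * a := fun b hb => by
      obtain ⟨c, hc⟩ := Submodule.mem_span_singleton.1 (hg.le (Ideal.mem_map_of_mem _ hb))
      obtain ⟨⟨c₁, c₂⟩, hc₂⟩ := IsLocalization.surj P.asIdeal.primeCompl c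
      have hs' : g * algebraMap _ _ (s : Γ(E, V)) = algebraMap _ _ a := hs
      have hc' : c * algebraMap _ _ (c₂ : Γ(E, V)) = algebraMap _ _ c₁ := hc₂
      rw [smul_eq_mul] at hc
      have heq : algebraMap Γ(E, V) (E.presheaf.stalk e) ((c₂ : Γ(E, V)) * s * b) =
          algebraMap Γ(E, V) (E.presheaf.stalk e) (c₁ * a) := by
        rw [map_mul, map_mul, map_mul, ← hs', ← hc', ← hc]; ring
      obtain ⟨⟨u, hu⟩, hu'⟩ := (IsLocalization.eq_iff_exists P.asIdeal.primeCompl (E.presheaf.stalk e)).1 heq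
      exact ⟨u * ((c₂ : Γ(E, V)) * s), P.asIdeal.primeCompl.mul_mem hu (P.asIdeal.primeCompl.mul_mem c₂.2 s.2),
        u * c₁, by simp only at hu'; linear_combination hu'⟩
    obtain ⟨T, hT⟩ := IsNoetherian.noetherian p.asIdeal
    choose t ht c hc using fun b : T => hb b (hT ▸ Submodule.subset_span b.2)
    refine ⟨a, ∏ b, t b, fun h => ?_, fun q hq => ⟨fun haq => ?_, fun h => ?_⟩⟩
    · obtain ⟨b, -, hb'⟩ := Ideal.IsPrime.prod_mem_iff.1 h
      exact ht b hb'
    · refine (fromSpec_specializes hV).2 ?_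
      rw [← hT, Submodule.span_le]
      intro b hb'
      refine (q.2.mem_or_mem (show t ⟨b, hb'⟩ * b ∈ q.asIdeal by rw [hc ⟨b, hb'⟩]; exact q.asIdeal.mul_mem_left _ haq)).resolve_left
        fun h => hq (Ideal.mem_of_dvd _ (Finset.dvd_prod_of_mem t (Finset.mem_univ _)) h)
    · exact (fromSpec_specializes hV).1 h hap
  choose π t ht hπ using key
  haveI : Fintype {y // y ∈ D ∧ y ⤳ e} := (hD.subset fun y hy => hy.1).fintype
  let s := ∏ y, t y
  let g := ∏ y, π y
  refine ⟨E.basicOpen s, ?_, hV.basicOpen s, W.ι.isAffineOpen_iff_of_isOpenImmersion.mp ?_⟩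
  · rw [E.mem_basicOpen s e heV, M1.isUnit_germ_iff hV heV]
    intro h
    obtain ⟨y, -, hy⟩ := Ideal.IsPrime.prod_mem_iff.1 h
    exact ht y hy
  rw [Scheme.Hom.image_preimage_eq_opensRange_inf, Scheme.Opens.opensRange_ι]
  have hU : W ⊓ E.basicOpen s = E.basicOpen (s * g) := by
    rw [E.basicOpen_mul]
    refine SetLike.ext fun z => ?_
    by_cases hzV : z ∈ V
    swap
    · exact iff_of_false (fun h => hzV (E.basicOpen_le s h.2)) (fun h => hzV (E.basicOpen_le s h.1))
    let q := hV.primeIdealOf ⟨z, hzV⟩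
    have hzq : hV.fromSpec q = z := hV.fromSpec_primeIdealOf _
    have hmem : ∀ a, z ∈ E.basicOpen a ↔ a ∉ q.asIdeal := fun a => by
      rw [E.mem_basicOpen a z hzV, M1.isUnit_germ_iff hV hzV]; rfl
    show z ∈ W ∧ z ∈ E.basicOpen s ↔ z ∈ E.basicOpen s ∧ z ∈ E.basicOpen g
    rw [hmem, hmem, and_comm, hW]
    refine and_congr_right fun hs => ⟨fun h hg => ?_, fun h y hy hyz => ?_⟩
    · obtain ⟨y, -, hy⟩ := Ideal.IsPrime.prod_mem_iff.1 hg
      exact h y.1 y.2.1 (hzq ▸ (hπ y q fun h' => hs (Ideal.mem_of_dvd _ (Finset.dvd_prod_of_mem t (Finset.mem_univ _)) h')).1 hy)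
    · by_cases hye : y ⤳ e
      · refine h (Ideal.mem_of_dvd _ (Finset.dvd_prod_of_mem π (Finset.mem_univ ⟨y, hy, hye⟩)) ?_)
        exact (hπ ⟨y, hy, hye⟩ q fun h' => hs (Ideal.mem_of_dvd _ (Finset.dvd_prod_of_mem t (Finset.mem_univ _)) h')).2
          (by rw [hzq]; exact hyz)
      · exact hVO hzV (Set.mem_iUnion₂.2 ⟨y, ⟨hy, hye⟩, specializes_iff_mem_closure.1 hyz⟩)
  rw [hU]
  exact hV.basicOpen _

/-- Functions on the complement of codimension two in an affine scheme with normal factorial local rings. -/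
theorem isIso_appTop_of_codim [IsAffine E] [IsLocallyNoetherian E]
    (hreg : ∀ e : E, IsRegularLocalRing (E.presheaf.stalk e)) {U : Scheme.{u}} (j : U ⟶ E) [IsOpenImmersion j]
    (hcodim : ∀ p, p ∉ Set.range j → ∃ z z', z ⤳ p ∧ z ≠ p ∧ z' ⤳ z ∧ z' ≠ z) : IsIso j.appTop := by
  have hV := isAffineOpen_top E
  haveI : IsNoetherianRing Γ(E, ⊤) := IsLocallyNoetherian.component_noetherian ⟨⊤, hV⟩
  let J : Ideal Γ(E, ⊤) := PrimeSpectrum.vanishingIdeal (hV.fromSpec ⁻¹' (Set.range j)ᶜ)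
  have hloc : ∀ (P : Ideal Γ(E, ⊤)) [P.IsPrime], IsDomain (Localization.AtPrime P) ∧
      IsIntegrallyClosed (Localization.AtPrime P) := fun P hP => by
    let x : E := hV.fromSpec ⟨P, hP⟩
    let _ := TopCat.Presheaf.algebra_section_stalk E.presheaf (⟨x, trivial⟩ : (⊤ : E.Opens))
    haveI : IsLocalization.AtPrime (E.presheaf.stalk x) P := by
      have := hV.isLocalization_stalk ⟨x, trivial⟩
      rwa [primeIdealOf_fromSpec hV] at this
    haveI := hreg x
    haveI hr : IsRegularLocalRing (Localization.AtPrime P) := IsRegularLocalRing.of_ringEquiv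
      (IsLocalization.algEquiv P.primeCompl (E.presheaf.stalk x) (Localization.AtPrime P)).toRingEquiv
    haveI := RegLoc.isDomain (Localization.AtPrime P)
    haveI := RegLoc.ufd_of_isRegularLocalRing (Localization.AtPrime P)
    exact ⟨inferInstance, inferInstance⟩
  have hclosed : IsClosed (hV.fromSpec ⁻¹' (Set.range j)ᶜ) :=
    j.opensRange.2.isClosed_compl.preimage hV.fromSpec.continuous
  have hJ : ∀ P : Ideal Γ(E, ⊤), P.IsPrime → J ≤ P → (2 : ℕ∞) ≤ P.height := fun P hP hJP => by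
    have hmem : (⟨P, hP⟩ : PrimeSpectrum Γ(E, ⊤)) ∈ hV.fromSpec ⁻¹' (Set.range j)ᶜ :=
      hclosed.closure_eq.le ((PrimeSpectrum.zeroLocus_vanishingIdeal_eq_closure _).le hJP)
    obtain ⟨z, z', hz, hzne, hz', hzne'⟩ := hcodim _ hmem
    obtain ⟨q, rfl⟩ : z ∈ Set.range hV.fromSpec := by rw [hV.range_fromSpec]; trivial
    obtain ⟨q', rfl⟩ : z' ∈ Set.range hV.fromSpec := by rw [hV.range_fromSpec]; trivial
    have h1 : q.asIdeal < P := lt_of_le_of_ne ((fromSpec_specializes hV).1 hz)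
      fun h => hzne (congrArg hV.fromSpec (PrimeSpectrum.ext h : q = ⟨P, hP⟩))
    have h2 : q'.asIdeal < q.asIdeal := lt_of_le_of_ne ((fromSpec_specializes hV).1 hz')
      fun h => hzne' (congrArg hV.fromSpec (PrimeSpectrum.ext h : q' = q))
    have h3 := Ideal.height_strict_mono_of_isPrime h1
    have h4 := Ideal.height_strict_mono_of_isPrime h2
    have h5 : 1 ≤ q.asIdeal.height := Order.one_le_iff_ne_zero.2 (ne_bot_of_gt h4)
    exact (by norm_num : (2 : ℕ∞) = 1 + 1).le.trans (Order.add_one_le_of_lt (h5.trans_lt h3))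
  obtain ⟨x, hxJ, y, hyJ, hx, hxy⟩ := Hartogs3.exists_pair J hloc hJ
  let O : E.Opens := j.opensRange.ι ''ᵁ ⊤
  have hO : ∀ a ∈ J, E.basicOpen a ≤ O := fun a ha p hp => by
    simp only [O, Scheme.Opens.ι_image_top]
    by_contra hpj
    obtain ⟨q, rfl⟩ : p ∈ Set.range hV.fromSpec := by rw [hV.range_fromSpec]; trivial
    have : a ∈ q.asIdeal := (PrimeSpectrum.mem_vanishingIdeal _ _).1 ha q hpj
    have h1 := (M1.isUnit_germ_iff hV trivial a).1 ((E.mem_basicOpen a _ trivial).1 hp)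
    rw [primeIdealOf_fromSpec hV] at h1
    exact h1 this
  have hb := Hartogs3.bijective_res_aux hV O x y (hO x hxJ) (hO y hyJ) hx hxy
  haveI : IsIso j.opensRange.ι.appTop := by
    rw [Scheme.Opens.ι_appTop]
    exact (ConcreteCategory.isIso_iff_bijective _).2 hb
  rw [← Scheme.Hom.isoOpensRange_hom_ι j, Scheme.Hom.comp_appTop]
  have h2 : IsIso j.isoOpensRange.hom.appTop := inferInstanceAs (IsIso (Scheme.Γ.map j.isoOpensRange.hom.op))
  exact IsIso.comp_isIso' inferInstance h2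

/-- The spectrum of the functions of a separated étale scheme with an étale affine extension is étale. -/
theorem etale_spec_appTop [IsAffine S] [IsNoetherian S] (hreg : ∀ s : S, IsRegularLocalRing (S.presheaf.stalk s))
    {U : Scheme.{u}} (q : U ⟶ S) (j : U ⟶ E) [IsOpenImmersion j] (g : E ⟶ S) [Etale g] [IsAffineHom g]
    (h : j ≫ g = q) : Etale (Spec.map q.appTop ≫ S.isoSpec.inv) := by
  classical
  haveI : IsAffine E := isAffine_of_isAffineHom g
  haveI := isNoetherian_of_etale g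
  have hE : ∀ e : E, IsRegularLocalRing (E.presheaf.stalk e) := fun e =>
    isRegularLocalRing_stalk_of_etale g e (hreg _)
  let Z : Set E := (Set.range j)ᶜ
  have hZ : IsClosed Z := j.opensRange.2.isClosed_compl
  let D : Set E := {y | y ∈ maxPts Z ∧ ∀ z, z ⤳ y → z ≠ y → IsGen z}
  have hDfin : D.Finite := (finite_maxPts hZ).subset fun y hy => hy.1
  let W : E.Opens := ⟨(⋃ y ∈ D, closure {y})ᶜ, (hDfin.isClosed_biUnion fun _ _ => isClosed_closure).isOpen_compl⟩
  have hmemW : ∀ e, e ∈ W ↔ ∀ y ∈ D, ¬ y ⤳ e := fun e => by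
    show e ∈ (⋃ y ∈ D, closure {y})ᶜ ↔ _
    simp [specializes_iff_mem_closure]
  haveI : IsAffineHom W.ι := isAffineHom_compl_closures hE hDfin (fun y hy => hy.2) W hmemW
  haveI : IsAffine W.toScheme := isAffine_of_isAffineHom W.ι
  have hjW : Set.range j ⊆ Set.range W.ι := by
    rw [Scheme.Opens.range_ι]
    rintro _ ⟨u, rfl⟩
    exact (hmemW _).2 fun y hy hyu => hy.1.1 (hyu.mem_open j.opensRange.2 ⟨u, rfl⟩)
  let j' := IsOpenImmersion.lift W.ι j hjW
  have hj' : j' ≫ W.ι = j := IsOpenImmersion.lift_fac _ _ _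
  haveI : IsOpenImmersion (j' ≫ W.ι) := hj' ▸ inferInstance
  haveI : IsOpenImmersion j' := IsOpenImmersion.of_comp j' W.ι
  haveI : IsIso j'.appTop := isIso_appTop_of_codim
    (fun w => isRegularLocalRing_stalk_of_etale (W.ι ≫ g) w (hreg _)) j' (fun p hp => by
      have hpZ : W.ι p ∈ Z := fun ⟨u, hu⟩ => hp ⟨u, W.ι.isOpenEmbedding.injective (by rw [← hu, ← hj']; rfl)⟩
      obtain ⟨y, hy, hyp⟩ := exists_maxPts hZ hpZ
      have hnot : y ∉ D := fun hyD => (hmemW _).1 p.2 y hyD hyp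
      have hyW : y ∈ W := (hmemW y).2 fun d hd hdy => hnot (hy.2 d hd.1.1 hdy ▸ hd)
      have : ∃ z, z ⤳ y ∧ z ≠ y ∧ ¬ IsGen z := by
        by_contra hc
        push Not at hc
        exact hnot ⟨hy, hc⟩
      obtain ⟨z, hz, hzne, hzgen⟩ := this
      obtain ⟨z', hz', hzne'⟩ : ∃ z', z' ⤳ z ∧ z' ≠ z := by
        unfold IsGen at hzgen; push Not at hzgen; exact hzgen
      have hzW : z ∈ W := hz.mem_open W.2 hyW
      have hzW' : z' ∈ W := hz'.mem_open W.2 hzW
      refine ⟨⟨z, hzW⟩, ⟨z', hzW'⟩, (subtype_specializes_iff _ _).2 (hz.trans hyp), fun h => ?_,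
        (subtype_specializes_iff _ _).2 hz', fun h => hzne' (congrArg Subtype.val h)⟩
      have hzp : z = W.ι p := congrArg Subtype.val h
      exact hzne (hz.antisymm (hyp.trans (specializes_of_eq hzp.symm))).eq)
  let g' := W.ι ≫ g
  have hg' : Spec.map g'.appTop ≫ S.isoSpec.inv = W.toScheme.isoSpec.inv ≫ g' :=
    Scheme.isoSpec_inv_naturality g'
  have hq : q.appTop = g'.appTop ≫ j'.appTop := by
    rw [← Scheme.Hom.comp_appTop, ← Category.assoc, hj', h]
  rw [hq, Spec.map_comp, Category.assoc, hg']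
  infer_instance

/-- Separated quasi-compact etale schemes over affine schemes are open in the spectrum of their functions. -/
theorem exists_openImmersion [IsAffine S] {U : Scheme.{u}} (q : U ⟶ S) [Etale q] [IsSeparated q] [QuasiCompact q]
    (h : Etale (Spec.map q.appTop ≫ S.isoSpec.inv)) :
    ∃ (E : Scheme.{u}) (j : U ⟶ E) (g : E ⟶ S), IsOpenImmersion j ∧ Etale g ∧ IsAffineHom g ∧ j ≫ g = q := by
  haveI : CompactSpace U := QuasiCompact.compactSpace_of_compactSpace q
  haveI := FiniteSplit.locallyQuasiFinite_of_etale q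
  haveI : U.IsQuasiAffine := SchDesc12.isQuasiAffine_of_lqf q
  refine ⟨_, U.toSpecΓ, Spec.map q.appTop ≫ S.isoSpec.inv, inferInstance, h, inferInstance, ?_⟩
  rw [← Category.assoc, ← Scheme.toSpecΓ_naturality, Category.assoc, Scheme.toSpecΓ_isoSpec_inv, Category.comp_id]

end Groth.Agent.EtHull15
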