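import Groth.Agent.Lib.EtHull15.OpenImm
import Groth.Agent.Lib.EtHull15.FEtale
import Groth.Agent.Lib.AlgSpDescent.FppfComp
import Groth.Agent.Lib.AlgSpace.Bootstrap
import Groth.Agent.Lib.AlgSpace.FlatQuot
import Groth.Agent.Lib.AlgSpace.Quot

/-!
# Factorisation of maps from flat covers into formally unramified schemes
-/

universe u

open CategoryTheory Limits AlgebraicGeometry TopologicalSpace AlgSp

set_option backward.isDefEq.respectTransparency.types false
set_option linter.style.haveILetI false

namespace Groth.Agent.EtHull15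

open Groth.Agent.AlgSpace Groth.Agent.AlgSpDecent Groth.Agent.AlgSpDescent

variable {X Y S : Scheme.{u}}

/-- The kernel pair of a map to a formally unramified scheme is open in the product over the base. -/
theorem isOpenImmersion_mapDesc [IsNoetherian S] (h : X ⟶ Y) (b : Y ⟶ S) [FormallyUnramified b]
    [LocallyOfFiniteType (h ≫ b)] :
    IsOpenImmersion (pullback.mapDesc h h b) := by
  haveI : IsLocallyNoetherian X := LocallyOfFiniteType.isLocallyNoetherian (h ≫ b)
  haveI : IsLocallyNoetherian (pullback (h ≫ b) (h ≫ b)) :=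
    LocallyOfFiniteType.isLocallyNoetherian (pullback.fst (h ≫ b) (h ≫ b))
  refine isOpenImmersion_of_lifts _ fun A B φ hφ hk g k hkg => ?_
  have h1 : k ≫ pullback.fst h h = Spec.map φ ≫ g ≫ pullback.fst _ _ := by
    have := hkg =≫ pullback.fst _ _
    simpa [pullback.mapDesc, pullback.map, pullback.lift_fst] using this
  have h2 : k ≫ pullback.snd h h = Spec.map φ ≫ g ≫ pullback.snd _ _ := by
    have := hkg =≫ pullback.snd _ _
    simpa [pullback.mapDesc, pullback.map, pullback.lift_snd] using this
  refine ⟨pullback.lift (g ≫ pullback.fst _ _) (g ≫ pullback.snd _ _) ?_, ?_⟩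
  · refine hom_ext_sqZero b φ hφ hk ?_ ?_
    · simp only [Category.assoc]
      rw [← reassoc_of% h1, ← reassoc_of% h2, pullback.condition]
    · simp only [Category.assoc]
      rw [pullback.condition]
  · apply pullback.hom_ext <;> simp [pullback.mapDesc, pullback.map, pullback.lift_fst, pullback.lift_snd]

set_option maxHeartbeats 1000000 in
/-- **Factorisation through an étale scheme mapping monomorphically.** -/
theorem exists_etale_mono_factorization [IsNoetherian S] (h : X ⟶ Y) (b : Y ⟶ S) [FormallyUnramified b]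
    [Flat (h ≫ b)] [LocallyOfFinitePresentation (h ≫ b)] :
    ∃ (E : Scheme.{u}) (u : X ⟶ E) (m : E ⟶ Y), Etale (m ≫ b) ∧ Flat u ∧ Surjective u ∧
      LocallyOfFinitePresentation u ∧ Mono m ∧ LocallyOfFiniteType m ∧ u ≫ m = h := by
  haveI := isOpenImmersion_mapDesc h b
  let X₀ : Over S := Over.mk (h ≫ b)
  let Y₀ : Over S := Over.mk b
  let R₀ : Over S := Over.mk (pullback.fst h h ≫ h ≫ b)
  let k : X₀ ⟶ Y₀ := Over.homMk h rfl
  let t : R₀ ⟶ X₀ := Over.homMk (pullback.fst h h) rfl
  let s : R₀ ⟶ X₀ := Over.homMk (pullback.snd h h) (pullback.condition_assoc b).symm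
  have hsk : s ≫ k = t ≫ k := by ext1; exact pullback.condition.symm
  haveI : Flat s.left := by
    change Flat (pullback.snd h h)
    have : pullback.snd h h = pullback.mapDesc h h b ≫ pullback.snd (h ≫ b) (h ≫ b) := by
      simp [pullback.mapDesc, pullback.map, pullback.lift_snd]
    rw [this]; infer_instance
  haveI : LocallyOfFinitePresentation s.left := by
    change LocallyOfFinitePresentation (pullback.snd h h)
    have : pullback.snd h h = pullback.mapDesc h h b ≫ pullback.snd (h ≫ b) (h ≫ b) := by
      simp [pullback.mapDesc, pullback.map, pullback.lift_snd]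
    rw [this]; infer_instance
  have key : ∀ (T : Over S) (x y : T ⟶ X₀), (∃ r : T ⟶ R₀, r ≫ t = x ∧ r ≫ s = y) ↔ x ≫ k = y ≫ k := by
    intro T x y
    constructor
    · rintro ⟨r, rfl, rfl⟩
      rw [Category.assoc, Category.assoc, hsk]
    · intro e
      have e' : x.left ≫ h = y.left ≫ h := congrArg CommaMorphism.left e
      refine ⟨Over.homMk (pullback.lift x.left y.left e') ?_, ?_, ?_⟩
      · change pullback.lift _ _ _ ≫ pullback.fst h h ≫ h ≫ b = T.hom
        rw [pullback.lift_fst_assoc]; exact Over.w x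
      · ext1; exact pullback.lift_fst _ _ _
      · ext1; exact pullback.lift_snd _ _ _
  have heq : IsEqvRel s t := by
    refine ⟨fun T r r' h₁ h₂ => ?_, fun T => ?_⟩
    · ext1
      exact pullback.hom_ext (congrArg CommaMorphism.left h₁) (congrArg CommaMorphism.left h₂)
    · refine ⟨fun x => (key T x x).2 rfl, fun {x y} h => (key T y x).2 ((key T x y).1 h).symm,
        fun {x y z} h₁ h₂ => (key T x z).2 (((key T x y).1 h₁).trans ((key T y z).1 h₂))⟩
  let p := coequalizer.π ((yon S).map s) ((yon S).map t)
  let hc := coequalizerIsCoequalizer ((yon S).map s) ((yon S).map t)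
  have w : (yon S).map s ≫ p = (yon S).map t ≫ p := coequalizer.condition _ _
  have sq := isPullback_of_isEqvRel heq w hc
  haveI : Sheaf.IsLocallySurjective p := by
    rw [Sheaf.isLocallySurjective_iff_epi]; infer_instance
  obtain ⟨hQ, hpfl, hpfp, hps⟩ := isAlgSpace_of_flat_kernelPair sq
  let q : coequalizer ((yon S).map s) ((yon S).map t) ⟶ (yon S).obj Y₀ :=
    coequalizer.desc ((yon S).map k) (by rw [← Functor.map_comp, ← Functor.map_comp, hsk])
  have hpq : p ≫ q = (yon S).map k := coequalizer.π_desc _ _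
  haveI : Mono q := mono_of_yon _ fun T x y e => by
    obtain ⟨W₁, v₁, l₁, hl₁a, hl₁b, hl₁c, hl₁⟩ := exists_single_cover_lift p x
    obtain ⟨W₂, v₂, l₂, hl₂a, hl₂b, hl₂c, hl₂⟩ := exists_single_cover_lift p ((yon S).map v₁ ≫ y)
    obtain ⟨n₁, rfl⟩ := (yon S).map_surjective l₁
    obtain ⟨n₂, rfl⟩ := (yon S).map_surjective l₂
    have ek : (v₂ ≫ n₁) ≫ k = n₂ ≫ k := (yon S).map_injective (by
      rw [Functor.map_comp, Functor.map_comp, Functor.map_comp, ← hpq, Category.assoc,
        reassoc_of% hl₁, reassoc_of% hl₂, e])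
    obtain ⟨r, hr₁, hr₂⟩ := (key _ _ _).2 ek
    have e' : (yon S).map (v₂ ≫ n₁) ≫ p = (yon S).map n₂ ≫ p := by
      rw [← hr₁, ← hr₂, Functor.map_comp, Functor.map_comp, Category.assoc, Category.assoc, w]
    rw [Functor.map_comp, Category.assoc, hl₁, hl₂] at e'
    have he₁ : Epi ((yon S).map v₁) := (Sheaf.isLocallySurjective_iff_epi _).1
      (isLocallySurjective_of_repWith _ ((repWith_yon_map_iff _ _).2 hl₁a)
        ((repWith_yon_map_iff _ _).2 hl₁c) ((repWith_yon_map_iff _ _).2 hl₁b))
    have he₂ : Epi ((yon S).map v₂) := (Sheaf.isLocallySurjective_iff_epi _).1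
      (isLocallySurjective_of_repWith _ ((repWith_yon_map_iff _ _).2 hl₂a)
        ((repWith_yon_map_iff _ _).2 hl₂c) ((repWith_yon_map_iff _ _).2 hl₂b))
    exact (cancel_epi _).1 ((cancel_epi _).1 e')
  haveI : LocallyOfFiniteType (h ≫ b) := inferInstance
  haveI : LocallyOfFiniteType k.left := locallyOfFiniteType_of_comp h b
  have hq : LocP @LocallyOfFiniteType q := by
    refine locP_of_fppf_comp (fun _ _ _ a c ha hap has hac =>
        locallyOfFiniteType_of_fppf_comp a c ha hap has hac) (IsAlgSpace.yon_obj _) hQ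
      (IsAlgSpace.yon_obj _) p q (fun z => ?_) (locP_of_repWith hQ hpfl) (locP_of_repWith hQ hpfp) ?_
    · obtain ⟨x, rfl⟩ := surjective_ofPt hps z
      exact ⟨Points.ofScheme X₀ x, (Points.ofPt_eq_map_ofScheme _ _).symm⟩
    · rw [hpq]
      exact locP_of_repWith (IsAlgSpace.yon_obj _) ((repWith_yon_map_iff _ _).2 ‹_›)
  obtain ⟨G, ⟨e⟩⟩ := exists_iso_yon_of_mono_lft hQ q hq
  obtain ⟨u, hu⟩ := (yon S).map_surjective (p ≫ e.inv)
  obtain ⟨m, hm⟩ := (yon S).map_surjective (e.hom ≫ q)
  have hum : u ≫ m = k := (yon S).map_injective (by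
    rw [Functor.map_comp, hu, hm, Category.assoc, e.inv_hom_id_assoc, hpq])
  haveI : Flat u.left := by
    rw [← repWith_yon_map_iff @Flat u, hu]
    exact MorphismProperty.RespectsIso.postcomp _ _ _ hpfl
  haveI : LocallyOfFinitePresentation u.left := by
    rw [← repWith_yon_map_iff @LocallyOfFinitePresentation u, hu]
    exact MorphismProperty.RespectsIso.postcomp _ _ _ hpfp
  haveI : Surjective u.left := by
    rw [← repWith_yon_map_iff @Surjective u, hu]
    exact MorphismProperty.RespectsIso.postcomp _ _ _ hps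
  haveI : Mono m := by
    haveI : Mono ((yon S).map m) := by rw [hm]; infer_instance
    exact (yon S).mono_of_mono_map this
  haveI : Mono m.left := inferInstanceAs (Mono ((Over.forget S).map m))
  have hml : u.left ≫ m.left = h := congrArg CommaMorphism.left hum
  haveI : LocallyOfFiniteType m.left :=
    locallyOfFiniteType_of_fppf_comp u.left m.left inferInstance inferInstance inferInstance
      (by rw [hml]; exact ‹LocallyOfFiniteType k.left›)
  have hcomp : u.left ≫ m.left ≫ b = h ≫ b := by rw [reassoc_of% hml]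
  haveI : Flat (u.left ≫ m.left ≫ b) := by rw [hcomp]; infer_instance
  haveI : Flat (m.left ≫ b) := flat_of_comp_flat_surjective u.left _
  haveI : LocallyOfFiniteType (m.left ≫ b) :=
    locallyOfFiniteType_of_fppf_comp u.left _ inferInstance inferInstance inferInstance
      (by rw [hcomp]; infer_instance)
  haveI : FormallyUnramified m.left := FormallyUnramified.of_hom_ext _
    fun _ _ _ _ _ g₁ g₂ _ hg => (cancel_mono m.left).1 hg
  haveI : LocallyOfFinitePresentation (m.left ≫ b) := by
    haveI : IsLocallyNoetherian S := inferInstance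
    infer_instance
  haveI : FormallyUnramified (m.left ≫ b) :=
    MorphismProperty.comp_mem @FormallyUnramified _ _ ‹_› ‹_›
  exact ⟨G.left, u.left, m.left, Etale.of_formallyUnramified_of_flat _, inferInstance, inferInstance,
    inferInstance, inferInstance, inferInstance, hml⟩

end Groth.Agent.EtHull15
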